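import Mathlib

/-!
Facts on `S₃` and `S₆` used for the centraliser `2^{1+8}.(S₃ × S₆)` (helper45).
-/

set_option autoImplicit false

namespace Cfsg.Agent.Lib.LargeNine45

open Equiv

abbrev P3 := Perm (Fin 3)
abbrev P6 := Perm (Fin 6)
abbrev T := P3 × P6

theorem pow_three_of_pow_nine : ∀ q : P6, q ^ 9 = 1 → q ^ 3 = 1 := by decide +kernel

/-- An involution of `A₆` centralises no element of order `3`. -/
theorem eq_one_of_comm_involution : ∀ f : P6, Perm.sign f = 1 → f * f = 1 → f ≠ 1 →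
    ∀ e : P6, e * f = f * e → e ^ 3 = 1 → e = 1 := by decide +kernel

theorem invol_three : ∀ a b : P3, a * a = 1 → b * b = 1 → a * b = b * a → a = 1 ∨ b = 1 ∨ a = b := by
  decide +kernel

theorem three_of_swaps : ∀ s p : P3, s * s = 1 → s ≠ 1 → p ^ 3 = 1 → p ≠ 1 →
    p * s * p⁻¹ ≠ s ∧ s * p * s⁻¹ = p⁻¹ ∧ p = (p * p * s * (p * p)⁻¹) * s ∨ p * s * p⁻¹ = s := by
  decide +kernel

theorem centralizer_alternating : ∀ q : P6, q * (swap 0 1 * swap 1 2) = (swap 0 1 * swap 1 2) * q →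
    q * (swap 1 2 * swap 2 3) = (swap 1 2 * swap 2 3) * q →
    q * (swap 3 4 * swap 4 5) = (swap 3 4 * swap 4 5) * q → q = 1 := by decide +kernel

theorem card_centralizer_invol :
    (Finset.univ.filter fun q : P6 => Perm.sign q = 1 ∧
      q * (swap 0 2 * swap 1 3) = (swap 0 2 * swap 1 3) * q).card = 8 := by decide +kernel

theorem exists_noncomm_eight : ∃ a b : P6, (Perm.sign a = 1 ∧
      a * (swap 0 2 * swap 1 3) = (swap 0 2 * swap 1 3) * a) ∧ (Perm.sign b = 1 ∧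
      b * (swap 0 2 * swap 1 3) = (swap 0 2 * swap 1 3) * b) ∧ a * b ≠ b * a :=
  ⟨swap 0 1 * swap 1 2 * swap 2 3 * swap 4 5, swap 0 2 * swap 4 5, by decide +kernel⟩

end Cfsg.Agent.Lib.LargeNine45
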