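import Mathlib
import Cfsg.Agent.Lib.LargeExtra.Setting
import Cfsg.Agent.Lib.LargeNine45.Perm

/-!
A group `H` with a central involution `z`, a normal extraspecial `X` of order `2⁹` and a map onto a
subgroup of `S₃ × S₆` with kernel `X`: commutator maps modulo `⟨z⟩` (helper45).
-/

set_option autoImplicit false

namespace Cfsg.Agent.Lib.LargeNine45

open Equiv LargeExtra
open scoped commutatorElement

/-- The basic setting. -/
structure Base {H : Type*} [Group H] (X : Subgroup H) (z : H) (φ : H →* T) : Prop where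
  good : Good X z
  zc : ∀ h, Commute h z
  card : Nat.card X = 512
  ker : φ.ker = X
  surjA : ∀ q : P6, Perm.sign q = 1 → ∃ h, φ h = (1, q)
  surjC : ∀ p : P3, p ^ 3 = 1 → ∃ h, φ h = (p, 1)

variable {H : Type*} [Group H] [Finite H] {X : Subgroup H} {z : H} {φ : H →* T}

namespace Base

theorem normalZ (B : Base X z φ) : (Subgroup.zpowers z).Normal :=
  ⟨fun n hn g => by
    obtain ⟨i, rfl⟩ := Subgroup.mem_zpowers_iff.1 hn
    rw [((B.zc g).zpow_right i).eq, mul_inv_cancel_right]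
    exact zpow_mem (Subgroup.mem_zpowers z) i⟩

theorem conj_mem (B : Base X z φ) (h : H) {x : H} (hx : x ∈ X) : h * x * h⁻¹ ∈ X :=
  B.good.norm h (B.zc h) x hx

theorem mem_iff (B : Base X z φ) {h : H} : φ h = 1 ↔ h ∈ X := by rw [← B.ker, MonoidHom.mem_ker]

theorem comm_mem (B : Base X z φ) (h : H) {x : H} (hx : x ∈ X) : ⁅h, x⁆ ∈ X :=
  mul_mem (B.conj_mem h hx) (inv_mem hx)

theorem div_mem (B : Base X z φ) {a b : H} (h : φ a = φ b) : a⁻¹ * b ∈ X :=
  B.mem_iff.1 (by rw [map_mul, map_inv, h, inv_mul_cancel])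

end Base

section
variable [(Subgroup.zpowers z).Normal]

local notation "Hb" => H ⧸ Subgroup.zpowers z

/-- The projection modulo `⟨z⟩`. -/
abbrev pz (z : H) [(Subgroup.zpowers z).Normal] : H →* H ⧸ Subgroup.zpowers z :=
  QuotientGroup.mk' (Subgroup.zpowers z)

local notation "π" => pz z

theorem pz_eq_one_iff {a : H} : π a = 1 ↔ a ∈ Subgroup.zpowers z := QuotientGroup.eq_one_iff a

theorem pz_z : π z = 1 := pz_eq_one_iff.2 (Subgroup.mem_zpowers z)

namespace Base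

theorem eq_or_of_pz (B : Base X z φ) {a b : H} (h : π a = π b) : b = a ∨ b = a * z := by
  rcases eq_or_of_mem_zpowers B.good.x_sq (QuotientGroup.eq.1 h) with e | e
  · exact Or.inl (inv_mul_eq_one.1 e).symm
  · exact Or.inr (inv_mul_eq_iff_eq_mul.1 e)

theorem mem_of_pz (B : Base X z φ) {a b : H} (h : π a = π b) (ha : a ∈ X) : b ∈ X := by
  rcases B.eq_or_of_pz h with rfl | rfl
  exacts [ha, mul_mem ha B.good.x_mem]

theorem commute_congr (B : Base X z φ) {a b c : H} (h : π a = π b) :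
    Commute a c ↔ Commute b c := by
  rcases B.eq_or_of_pz h with rfl | rfl
  · exact Iff.rfl
  refine ⟨fun e => e.mul_left (B.zc c).symm, fun e => ?_⟩
  have := e.mul_left (B.zc c).symm
  rwa [mul_assoc, B.good.x_sq, mul_one] at this

theorem pz_comm (B : Base X z φ) {a b : H} (ha : a ∈ X) (hb : b ∈ X) : Commute (π a) (π b) := by
  rw [Commute, SemiconjBy, ← mul_inv_eq_iff_eq_mul]
  rcases B.good.comm a ha b hb with e | e
  · rw [← map_inv, ← map_mul, ← map_mul, e]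
  · rw [← map_inv, ← map_mul, ← map_mul, e, map_mul, pz_z, mul_one]

theorem pz_sq (B : Base X z φ) {a : H} (ha : a ∈ X) : π a * π a = 1 := by
  rw [← map_mul, pz_eq_one_iff]
  rcases B.good.sq_cases ha with e | e <;> rw [e]
  exacts [one_mem _, Subgroup.mem_zpowers z]

theorem pz_inv (B : Base X z φ) {a : H} (ha : a ∈ X) : (π a)⁻¹ = π a :=
  inv_eq_of_mul_eq_one_right (B.pz_sq ha)

theorem pz_conj_congr (B : Base X z φ) {f f' x : H} (h : φ f = φ f') (hx : x ∈ X) :
    π (f * x * f⁻¹) = π (f' * x * f'⁻¹) := by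
  have hq := B.div_mem h
  have e : π ((f⁻¹ * f') * x * (f⁻¹ * f')⁻¹) = π x := by
    rw [map_mul, map_mul, map_inv, (B.pz_comm hq hx).eq, mul_inv_cancel_right]
  calc π (f * x * f⁻¹) = π f * π x * (π f)⁻¹ := by rw [map_mul, map_mul, map_inv]
    _ = π f * π ((f⁻¹ * f') * x * (f⁻¹ * f')⁻¹) * (π f)⁻¹ := by rw [e]
    _ = π (f * ((f⁻¹ * f') * x * (f⁻¹ * f')⁻¹) * f⁻¹) := by simp only [map_mul, map_inv]
    _ = π (f' * x * f'⁻¹) := by congr 1; group

end Base

/-- `f` fixes `x` modulo `⟨z⟩`. -/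
def Fx (z : H) [(Subgroup.zpowers z).Normal] (X : Subgroup H) (f : H) : Subgroup H :=
  X ⊓ (Subgroup.centralizer {pz z f}).comap (pz z)

theorem mem_Fx {f x : H} : x ∈ Fx z X f ↔ x ∈ X ∧ π (f * x * f⁻¹) = π x := by
  simp only [Fx, Subgroup.mem_inf, Subgroup.mem_comap, Subgroup.mem_centralizer_singleton_iff]
  refine and_congr Iff.rfl ?_
  simp only [map_mul, map_inv]
  rw [mul_inv_eq_iff_eq_mul]
  exact eq_comm

namespace Base

/-- `x ↦ [f, x]` modulo `⟨z⟩`. -/
def delta (B : Base X z φ) (f : H) : ↥X →* Hb :=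
  MonoidHom.mk' (fun x => π ⁅f, (x : H)⁆) fun a b => by
    have h1 : ⁅f, (a : H) * b⁆ = ⁅f, (a : H)⁆ * ((a : H) * ⁅f, (b : H)⁆ * (a : H)⁻¹) := by
      simp only [commutatorElement_def]; group
    have h2 : π ((a : H) * ⁅f, (b : H)⁆ * (a : H)⁻¹) = π ⁅f, (b : H)⁆ := by
      rw [map_mul, map_mul, map_inv, (B.pz_comm a.2 (B.comm_mem f b.2)).eq, mul_inv_cancel_right]
    show π ⁅f, ((a * b : ↥X) : H)⁆ = _
    rw [Subgroup.coe_mul, h1, map_mul, h2]

theorem delta_apply (B : Base X z φ) (f : H) (x : ↥X) : B.delta f x = π ⁅f, (x : H)⁆ := rfl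

/-- The preimage of the commutators of `f` with `X`. -/
def Im (B : Base X z φ) (f : H) : Subgroup H := (B.delta f).range.comap π

theorem mem_Im (B : Base X z φ) {f a : H} : a ∈ B.Im f ↔ ∃ x ∈ X, π ⁅f, x⁆ = π a := by
  simp only [Im, Subgroup.mem_comap, MonoidHom.mem_range, delta_apply]
  exact ⟨fun ⟨x, hx⟩ => ⟨x, x.2, hx⟩, fun ⟨x, hx, e⟩ => ⟨⟨x, hx⟩, e⟩⟩

theorem Im_le (B : Base X z φ) (f : H) : B.Im f ≤ X := fun a ha => by
  obtain ⟨x, hx, e⟩ := B.mem_Im.1 ha
  exact B.mem_of_pz e (B.comm_mem f hx)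

theorem z_mem_Im (B : Base X z φ) (f : H) : z ∈ B.Im f :=
  B.mem_Im.2 ⟨1, one_mem X, by rw [commutatorElement_one_right, map_one, pz_z]⟩

theorem z_mem_Fx (B : Base X z φ) (f : H) : z ∈ Fx z X f :=
  mem_Fx.2 ⟨B.good.x_mem, by rw [(B.zc f).eq, mul_inv_cancel_right]⟩

theorem card_Im_mul_Fx (B : Base X z φ) (f : H) :
    Nat.card ↥(B.Im f) * Nat.card ↥(Fx z X f) = 1024 := by
  have h1 : Nat.card ↥(B.Im f) = Nat.card (B.delta f).range * 2 := by
    have hk : Subgroup.zpowers z ≤ B.Im f := Subgroup.zpowers_le.2 (B.z_mem_Im f)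
    have hmap : (B.Im f).map π = (B.delta f).range :=
      Subgroup.map_comap_eq_self_of_surjective (QuotientGroup.mk'_surjective _) _
    have h2 := Subgroup.card_mul_index ((π).domRestrict (B.Im f)).ker
    rw [Subgroup.index_ker, MonoidHom.domRestrict_range, hmap] at h2
    have h3 : Nat.card ((π).domRestrict (B.Im f)).ker = 2 := by
      rw [MonoidHom.ker_domRestrict, QuotientGroup.ker_mk',
        Nat.card_congr (Subgroup.subgroupOfEquivOfLe hk).toEquiv, Nat.card_zpowers,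
        orderOf_eq_prime (p := 2) (by rw [pow_two, B.good.x_sq]) B.good.x_ne]
    rw [← h2, h3, mul_comm]
  have h2 := (B.delta f).ker.card_mul_index
  rw [Subgroup.index_ker, B.card] at h2
  have h3 : Nat.card ↥(Fx z X f) = Nat.card (B.delta f).ker := by
    refine Nat.card_congr ⟨fun x => ⟨⟨x, (mem_Fx.1 x.2).1⟩, ?_⟩, fun x => ⟨(x : ↥X), ?_⟩,
      fun _ => rfl, fun _ => rfl⟩
    · show π ⁅f, (x : H)⁆ = 1
      rw [commutatorElement_def, map_mul, (mem_Fx.1 x.2).2, ← map_mul, mul_inv_cancel, map_one]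
    · refine mem_Fx.2 ⟨x.1.2, ?_⟩
      have := x.2
      rw [MonoidHom.mem_ker, delta_apply, commutatorElement_def, map_mul, map_inv, mul_inv_eq_one] at this
      exact this
  rw [h1, h3]
  calc _ = Nat.card (B.delta f).ker * Nat.card (B.delta f).range * 2 := by ring
    _ = 1024 := by rw [h2]

theorem Im_congr (B : Base X z φ) {f f' : H} (h : φ f = φ f') : B.Im f = B.Im f' := by
  have : ∀ x ∈ X, π ⁅f, x⁆ = π ⁅f', x⁆ := fun x hx => by
    simp only [commutatorElement_def, map_mul π _ x⁻¹]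
    rw [B.pz_conj_congr h hx]
  ext a
  simp only [B.mem_Im]
  exact ⟨fun ⟨x, hx, e⟩ => ⟨x, hx, (this x hx).symm.trans e⟩,
    fun ⟨x, hx, e⟩ => ⟨x, hx, (this x hx).trans e⟩⟩

theorem Fx_congr (B : Base X z φ) {f f' : H} (h : φ f = φ f') : Fx z X f = Fx z X f' := by
  ext a
  simp only [mem_Fx]
  exact and_congr_right fun ha => by rw [B.pz_conj_congr h ha]

theorem conj_mem_Im (B : Base X z φ) {f h a : H} (ha : a ∈ B.Im f) :
    h * a * h⁻¹ ∈ B.Im (h * f * h⁻¹) := by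
  obtain ⟨x, hx, e⟩ := B.mem_Im.1 ha
  refine B.mem_Im.2 ⟨h * x * h⁻¹, B.conj_mem h hx, ?_⟩
  rw [show ⁅h * f * h⁻¹, h * x * h⁻¹⁆ = h * ⁅f, x⁆ * h⁻¹ by simp only [commutatorElement_def]; group]
  simp only [map_mul] at e ⊢
  rw [e]

theorem conj_mem_Im_of_comm (B : Base X z φ) {f h a : H} (hc : Commute (φ h) (φ f))
    (ha : a ∈ B.Im f) : h * a * h⁻¹ ∈ B.Im f := by
  have := B.conj_mem_Im (h := h) ha
  rwa [B.Im_congr (f' := f) (by rw [map_mul, map_mul, map_inv, hc.eq, mul_inv_cancel_right])] at this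

/-- An element commuting with one factor iff with the other commutes with the quotient. -/
theorem commute_div (B : Base X z φ) {a b c : H} (ha : a ∈ X) (hb : b ∈ X) (hc : c ∈ X)
    (h : Commute a c ↔ Commute b c) : Commute (a * b⁻¹) c := by
  by_cases hac : Commute a c
  · exact hac.mul_left (h.1 hac).inv_left
  have hbc : ¬ Commute b c := fun e => hac (h.2 e)
  have e1 : c * a * c⁻¹ = a * z :=
    (B.good.comm c hc a ha).resolve_left fun e => hac (conj_eq_iff_comm.1 e).symm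
  have e2 : c * b * c⁻¹ = b * z :=
    (B.good.comm c hc b hb).resolve_left fun e => hbc (conj_eq_iff_comm.1 e).symm
  refine Commute.symm (conj_eq_iff_comm.1 ?_)
  calc c * (a * b⁻¹) * c⁻¹ = c * a * c⁻¹ * (c * b * c⁻¹)⁻¹ := by group
    _ = a * b⁻¹ := by rw [e1, e2]; group

theorem commute_of_Im_Fx (B : Base X z φ) {f a b : H} (ha : a ∈ B.Im f) (hb : b ∈ Fx z X f) :
    Commute a b := by
  obtain ⟨x, hx, e⟩ := B.mem_Im.1 ha
  obtain ⟨hbX, hbf⟩ := mem_Fx.1 hb
  refine (B.commute_congr e).1 ?_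
  rw [commutatorElement_def]
  refine B.commute_div (B.conj_mem f hx) hx hbX ?_
  calc Commute (f * x * f⁻¹) b ↔ Commute (f * x * f⁻¹) (f * b * f⁻¹) :=
        ⟨fun h => ((B.commute_congr hbf.symm).1 h.symm).symm, fun h => ((B.commute_congr hbf).1 h.symm).symm⟩
    _ ↔ Commute x b := Commute.conj_iff f

theorem mem_Fx_of_commute (B : Base X z φ) {f x : H} (hx : x ∈ X)
    (h : ∀ y ∈ X, Commute x ⁅f, y⁆) : x ∈ Fx z X f := by
  refine mem_Fx.2 ⟨hx, ?_⟩
  have hw : ∀ y ∈ X, Commute (f * x * f⁻¹ * x⁻¹) y := fun y hy => by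
    have hy' : f⁻¹ * y * f ∈ X := by simpa using B.conj_mem f⁻¹ hy
    have e : y = f * (f⁻¹ * y * f) * f⁻¹ := by group
    rw [e]
    refine B.commute_div (B.conj_mem f hx) hx (B.conj_mem f hy') ?_
    rw [Commute.conj_iff f]
    have h1 : Commute x ⁅f, f⁻¹ * y * f⁆ := h _ hy'
    rw [commutatorElement_def] at h1
    constructor
    · intro hc
      have := h1.mul_right hc
      rwa [inv_mul_cancel_right] at this
    · intro hc
      have := h1.inv_right.mul_right hc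
      rwa [mul_inv_rev, inv_inv, inv_mul_cancel_right] at this
  rcases B.good.centre _ (mul_mem (B.conj_mem f hx) (inv_mem hx)) hw with e | e
  · rw [mul_inv_eq_one.1 e]
  · rw [mul_inv_eq_iff_eq_mul.1 e, map_mul, pz_z, one_mul]

theorem Im_le_Fx_of_sq (B : Base X z φ) {f : H} (hf : f * f ∈ X) : B.Im f ≤ Fx z X f := by
  intro a ha
  obtain ⟨x, hx, e⟩ := B.mem_Im.1 ha
  refine mem_Fx.2 ⟨B.Im_le f ha, ?_⟩
  simp only [map_mul, map_inv, ← e, commutatorElement_def]
  have h2 : π f * π f * π x * (π f * π f)⁻¹ = π x := by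
    rw [← map_mul, (B.pz_comm hf hx).eq, mul_inv_cancel_right]
  calc π f * (π f * π x * (π f)⁻¹ * (π x)⁻¹) * (π f)⁻¹
      = π f * π f * π x * (π f * π f)⁻¹ * (π f * π x * (π f)⁻¹)⁻¹ := by group
    _ = π x * (π (f * x * f⁻¹))⁻¹ := by rw [h2]; simp only [map_mul, map_inv]
    _ = (π x)⁻¹ * π (f * x * f⁻¹) := by rw [B.pz_inv hx, B.pz_inv (B.conj_mem f hx)]
    _ = π (f * x * f⁻¹) * (π x)⁻¹ := by rw [B.pz_inv hx, (B.pz_comm hx (B.conj_mem f hx)).eq]
    _ = π f * π x * (π f)⁻¹ * (π x)⁻¹ := by simp only [map_mul, map_inv]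

/-- An element of order `3` modulo `X` that fixes `[c, x]` fixes `x`. -/
theorem three (B : Base X z φ) {c x : H} (hc : c ^ 3 ∈ X) (hx : x ∈ X)
    (hw : π (c * ⁅c, x⁆ * c⁻¹) = π ⁅c, x⁆) : π (c * x * c⁻¹) = π x := by
  set w := π ⁅c, x⁆ with hwd
  have e1 : π c * π x * (π c)⁻¹ = w * π x := by
    rw [hwd, commutatorElement_def]; simp only [map_mul, map_inv]; group
  have e2 : π c * w * (π c)⁻¹ = w := by rw [hwd]; simpa only [map_mul, map_inv] using hw
  have e3 : π (c ^ 3 * x * (c ^ 3)⁻¹) = π x := by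
    simp only [map_mul, map_inv]
    rw [(B.pz_comm hc hx).eq, mul_inv_cancel_right]
  have e4 : π (c ^ 3 * x * (c ^ 3)⁻¹) = w * w * w * π x := by
    simp only [map_mul, map_inv, map_pow]
    calc π c ^ 3 * π x * (π c ^ 3)⁻¹ = π c * (π c * (π c * π x * (π c)⁻¹) * (π c)⁻¹) * (π c)⁻¹ := by
          simp only [pow_succ, pow_zero, one_mul, mul_inv_rev, mul_assoc]
      _ = (π c * (π c * w * (π c)⁻¹) * (π c)⁻¹) * ((π c * w * (π c)⁻¹) * (π c * π x * (π c)⁻¹)) := by
          rw [e1]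
          calc π c * (π c * (w * π x) * (π c)⁻¹) * (π c)⁻¹
              = π c * ((π c * w * (π c)⁻¹) * (π c * π x * (π c)⁻¹)) * (π c)⁻¹ := by group
            _ = π c * (w * (w * π x)) * (π c)⁻¹ := by rw [e2, e1]
            _ = (π c * w * (π c)⁻¹) * ((π c * w * (π c)⁻¹) * (π c * π x * (π c)⁻¹)) := by group
            _ = _ := by rw [e2, e2, e1]
      _ = w * w * w * π x := by rw [e2, e2, e1, mul_assoc, mul_assoc]
  rw [e3, show w * w = 1 from B.pz_sq (B.comm_mem c hx), one_mul] at e4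
  simp only [map_mul, map_inv]
  rw [e1, ← e4]

end Base
end

end Cfsg.Agent.Lib.LargeNine45
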