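import Mathlib
import Cfsg.Agent.Lib.LargeNine45.Base

/-!
The lifts of `1 × A₆` on a subgroup of order at most `2⁵` between `⟨z⟩` and `X` (helper45).
-/

set_option autoImplicit false

namespace Cfsg.Agent.Lib.LargeNine45

open Equiv

/-- `A₆`. -/
abbrev A6 := alternatingGroup (Fin 6)

theorem card_A6 : Nat.card A6 = 360 := by
  rw [nat_card_alternatingGroup]; simp [Nat.factorial]

theorem simple_A6 : IsSimpleGroup A6 := alternatingGroup.isSimpleGroup (by simp)

/-- A subgroup of `A₆` of index less than `6` is everything. -/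
theorem A6_eq_top_of_index (K : Subgroup A6) (h : K.index ≤ 5) : K = ⊤ := by
  haveI := simple_A6
  by_contra hK
  have hcore : K.normalCore = ⊥ :=
    (Subgroup.normalCore_normal K).eq_bot_or_eq_top.resolve_right fun e =>
      hK (top_unique (e ▸ Subgroup.normalCore_le K))
  have h1 : Nat.card A6 ∣ Nat.card (Equiv.Perm (A6 ⧸ K)) := by
    refine Subgroup.card_dvd_of_injective (MulAction.toPermHom A6 (A6 ⧸ K)) ?_
    rw [← MonoidHom.ker_eq_bot_iff, ← Subgroup.normalCore_eq_ker, hcore]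
  rw [card_A6, Nat.card_perm, ← Subgroup.index_eq_card] at h1
  have h2 : Nat.factorial K.index ≤ Nat.factorial 5 := Nat.factorial_le h
  have := Nat.le_of_dvd (Nat.factorial_pos _) h1
  norm_num [Nat.factorial] at h2
  omega

variable {H : Type*} [Group H] [Finite H] {X : Subgroup H} {z : H} {φ : H →* T}
variable [(Subgroup.zpowers z).Normal]

local notation "π" => pz z

/-- The lifts of `1 × A₆`. -/
def IsLift (φ : H →* T) (q : P6) (h : H) : Prop := φ h = (1, q) ∧ Perm.sign q = 1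

namespace Base

/-- All lifts of `1 × A₆` fix `Y` modulo `⟨z⟩`. -/
def Trivial (_B : Base X z φ) (Y : Subgroup H) : Prop :=
  ∀ q h, IsLift φ q h → ∀ y ∈ Y, π (h * y * h⁻¹) = π y

theorem exists_aut (B : Base X z φ) (Y : Subgroup H) (hY : Y ≤ X)
    (hn : ∀ q h, IsLift φ q h → ∀ y ∈ Y, h * y * h⁻¹ ∈ Y) :
    ∃ α : A6 →* MulAut ↥(Y.map π), ∀ (q : A6) (h : H) (y : H) (hy : y ∈ Y), φ h = (1, (q : P6)) →
      (α q ⟨π y, Subgroup.mem_map_of_mem _ hy⟩ : H ⧸ Subgroup.zpowers z) = π (h * y * h⁻¹) := by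
  have hl : ∀ q : A6, ∃ l, φ l = (1, (q : P6)) := fun q =>
    B.surjA q (Equiv.Perm.mem_alternatingGroup.1 q.2)
  choose l hl using hl
  have key : ∀ (q : A6) (h : H), φ h = (1, (q : P6)) → ∀ w ∈ Y.map π,
      π h * w * (π h)⁻¹ ∈ Y.map π ∧ π h * w * (π h)⁻¹ = π (l q) * w * (π (l q))⁻¹ := by
    rintro q h hh _ ⟨y, hy, rfl⟩
    refine ⟨⟨h * y * h⁻¹, hn q h ⟨hh, Equiv.Perm.mem_alternatingGroup.1 q.2⟩ y hy, by simp⟩, ?_⟩
    simpa only [map_mul, map_inv] using B.pz_conj_congr (hh.trans (hl q).symm) (hY hy)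
  let f : A6 → ↥(Y.map π) → ↥(Y.map π) := fun q w =>
    ⟨π (l q) * w * (π (l q))⁻¹, (key q (l q) (hl q) _ w.2).1⟩
  have fmul : ∀ q r w, f (q * r) w = f q (f r w) := fun q r w => Subtype.ext (by
    show π (l (q * r)) * w.1 * (π (l (q * r)))⁻¹ =
      π (l q) * (π (l r) * w.1 * (π (l r))⁻¹) * (π (l q))⁻¹
    rw [← (key (q * r) (l q * l r) (by rw [map_mul, hl, hl]; simp) _ w.2).2, map_mul]
    group)
  have fone : ∀ w, f 1 w = w := fun w => Subtype.ext (by
    show π (l 1) * w.1 * (π (l 1))⁻¹ = w.1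
    rw [← (key 1 1 (by rw [map_one]; rfl) _ w.2).2]; simp)
  let a : A6 → MulAut ↥(Y.map π) := fun q =>
    { toFun := f q
      invFun := f q⁻¹
      left_inv := fun w => by rw [← fmul, inv_mul_cancel, fone]
      right_inv := fun w => by rw [← fmul, mul_inv_cancel, fone]
      map_mul' := fun u w => Subtype.ext (by
        show π (l q) * (u.1 * w.1) * (π (l q))⁻¹ =
          π (l q) * u.1 * (π (l q))⁻¹ * (π (l q) * w.1 * (π (l q))⁻¹)
        group) }
  refine ⟨MonoidHom.mk' a fun q r => MulEquiv.ext fun w => fmul q r w, fun q h y hy hh => ?_⟩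
  show π (l q) * π y * (π (l q))⁻¹ = _
  rw [← (key q h hh _ (Subgroup.mem_map_of_mem _ hy)).2]
  simp only [map_mul, map_inv]

theorem card_map (B : Base X z φ) {Y : Subgroup H} (hz : z ∈ Y) :
    Nat.card Y = 2 * Nat.card (Y.map π) := by
  have h2 := Subgroup.card_mul_index ((π).domRestrict Y).ker
  rw [Subgroup.index_ker, MonoidHom.domRestrict_range] at h2
  have hk : Subgroup.zpowers z ≤ Y := Subgroup.zpowers_le.2 hz
  have h3 : Nat.card ((π).domRestrict Y).ker = 2 := by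
    rw [MonoidHom.ker_domRestrict, QuotientGroup.ker_mk',
      Nat.card_congr (Subgroup.subgroupOfEquivOfLe hk).toEquiv, Nat.card_zpowers,
      orderOf_eq_prime (p := 2) (by rw [pow_two, B.good.x_sq]) B.good.x_ne]
  rw [← h2, h3]

theorem card_dvd (B : Base X z φ) {Y : Subgroup H} (hY : Y ≤ X) : Nat.card Y ∣ 512 :=
  B.card ▸ Subgroup.card_dvd_of_le hY

/-- An automorphism of order dividing `5` of a `2`-group of order at most `16` is trivial as soon as it
fixes a non-trivial element, or the order is less than `16`. -/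
theorem eq_one_of_five {W : Type*} [Group W] [Finite W] (hd : Nat.card W ∣ 2 ^ 4) (β : MulAut W)
    (h5 : β ^ 5 = 1) (hfix : Nat.card W < 16 ∨ ∃ w, w ≠ 1 ∧ β w = w) : β = 1 := by
  haveI : Fact (Nat.Prime 5) := ⟨by norm_num⟩
  have hp : IsPGroup 5 (Subgroup.zpowers β) := by
    intro x
    refine ⟨1, Subtype.ext ?_⟩
    obtain ⟨i, hi⟩ := Subgroup.mem_zpowers_iff.1 x.2
    rw [pow_one, SubmonoidClass.coe_pow, ← hi, ← zpow_natCast, ← zpow_mul, mul_comm, zpow_mul,
      zpow_natCast, h5, one_zpow, Subgroup.coe_one]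
  let Fs : Subgroup W :=
    { carrier := {w | β w = w}
      one_mem' := map_one β
      mul_mem' := fun {a b} ha hb => by show β (a * b) = a * b; rw [map_mul, ha, hb]
      inv_mem' := fun {a} ha => by show β a⁻¹ = a⁻¹; rw [map_inv, ha] }
  have hset : MulAction.fixedPoints (Subgroup.zpowers β) W = (Fs : Set W) := by
    ext w
    refine ⟨fun h => h ⟨β, Subgroup.mem_zpowers β⟩, fun h x => ?_⟩
    have hle : Subgroup.zpowers β ≤ MulAction.stabilizer (MulAut W) w :=
      Subgroup.zpowers_le.2 (by exact h)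
    exact hle x.2
  have hmod := hp.card_modEq_card_fixedPoints (α := W)
  rw [hset] at hmod
  obtain ⟨i, hi, hW⟩ := (Nat.dvd_prime_pow Nat.prime_two).1 hd
  obtain ⟨j, hj, hF⟩ := (Nat.dvd_prime_pow Nat.prime_two).1 ((Subgroup.card_subgroup_dvd_card Fs).trans hd)
  have hF' : Nat.card ↥(Fs : Set W) = 2 ^ j := hF
  rw [hW, hF'] at hmod
  have hle : 2 ^ j ≤ 2 ^ i := by rw [← hW, ← hF]; exact Subgroup.card_le_card_group Fs
  have heq : 2 ^ j = 2 ^ i := by
    have hne : 2 ^ i = 16 → 2 ≤ 2 ^ j := by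
      intro h16
      rcases hfix with hlt | ⟨w, hw, hb⟩
      · omega
      · have : Nontrivial Fs := ⟨⟨⟨w, hb⟩, 1, fun e => hw (congrArg Subtype.val e)⟩⟩
        rw [← hF]; exact Finite.one_lt_card
    rw [Nat.ModEq] at hmod
    interval_cases i <;> interval_cases j <;> omega
  have htop : Fs = ⊤ := Subgroup.eq_top_of_card_eq _ (by rw [hW, hF, heq])
  exact MulEquiv.ext fun w => (show w ∈ Fs from htop ▸ Subgroup.mem_top w)

theorem exists_order_five : ∃ d : A6, orderOf d = 5 := by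
  haveI : Fact (Nat.Prime 5) := ⟨by norm_num⟩
  exact exists_prime_orderOf_dvd_card' 5 (by rw [card_A6]; norm_num)

variable (B : Base X z φ) {Y : Subgroup H}

/-- Small subgroups are centralised. -/
theorem trivial_of (hz : z ∈ Y) (hY : Y ≤ X) (h32 : Nat.card Y ≤ 32)
    (hn : ∀ q h, IsLift φ q h → ∀ y ∈ Y, h * y * h⁻¹ ∈ Y)
    (hfix : Nat.card Y < 32 ∨ ∃ y ∈ Y, π y ≠ 1 ∧ ∀ q h, IsLift φ q h → π (h * y * h⁻¹) = π y) :
    B.Trivial Y := by
  obtain ⟨α, hα⟩ := B.exists_aut Y hY hn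
  haveI := simple_A6
  obtain ⟨d, hd⟩ := exists_order_five
  have hc := B.card_map hz
  have hdvd : Nat.card (Y.map π) ∣ 2 ^ 4 := by
    obtain ⟨k, -, hk⟩ := (Nat.dvd_prime_pow Nat.prime_two).1
      (show Nat.card (Y.map π) ∣ 2 ^ 9 from (Dvd.intro_left 2 hc.symm).trans (B.card_dvd hY))
    rw [hk] at hc ⊢
    refine Nat.pow_dvd_pow 2 ((Nat.pow_le_pow_iff_right one_lt_two).1 ?_)
    omega
  have hone : α d = 1 := by
    refine eq_one_of_five hdvd _ (by rw [← map_pow, ← hd, pow_orderOf_eq_one, map_one]) ?_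
    rcases hfix with hlt | ⟨y, hy, hy1, hf⟩
    · exact Or.inl (by omega)
    · refine Or.inr ⟨⟨π y, Subgroup.mem_map_of_mem _ hy⟩, fun e => hy1 (congrArg Subtype.val e), ?_⟩
      obtain ⟨h, hh⟩ := B.surjA (d : P6) (Equiv.Perm.mem_alternatingGroup.1 d.2)
      exact Subtype.ext ((hα d h y hy hh).trans (hf _ h ⟨hh, Equiv.Perm.mem_alternatingGroup.1 d.2⟩))
  have hker : α.ker = ⊤ := (MonoidHom.normal_ker α).eq_bot_or_eq_top.resolve_left fun e => by
    have : d ∈ α.ker := hone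
    rw [e, Subgroup.mem_bot] at this
    rw [this, orderOf_one] at hd
    norm_num at hd
  intro q h ⟨hh, hq⟩ y hy
  have hq' : (⟨q, Equiv.Perm.mem_alternatingGroup.2 hq⟩ : A6) ∈ α.ker := hker ▸ Subgroup.mem_top _
  rw [MonoidHom.mem_ker] at hq'
  rw [← hα ⟨q, Equiv.Perm.mem_alternatingGroup.2 hq⟩ h y hy hh, hq']
  rfl

/-- Otherwise the action is transitive, with point stabilisers of order `24`. -/
theorem orbit_of (hz : z ∈ Y) (hY : Y ≤ X) (h32 : Nat.card Y = 32)
    (hn : ∀ q h, IsLift φ q h → ∀ y ∈ Y, h * y * h⁻¹ ∈ Y) (hnt : ¬ B.Trivial Y)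
    {y : H} (hy : y ∈ Y) (hy1 : π y ≠ 1) :
    (∀ w ∈ Y, π w ≠ 1 → ∃ q h, IsLift φ q h ∧ π (h * y * h⁻¹) = π w) ∧
    ∃ K : Subgroup A6, Nat.card K = 24 ∧ ∀ (q : A6) h, φ h = (1, (q : P6)) →
      (q ∈ K ↔ π (h * y * h⁻¹) = π y) := by
  obtain ⟨α, hα⟩ := B.exists_aut Y hY hn
  haveI := simple_A6
  have hW : Nat.card (Y.map π) = 16 := by have := B.card_map hz; omega
  have hlift : ∀ q : A6, ∃ h, φ h = (1, (q : P6)) := fun q =>
    B.surjA q (Equiv.Perm.mem_alternatingGroup.1 q.2)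
  have hne : ¬ ∀ q : A6, α q = 1 := fun hall => hnt fun q h ⟨hh, hq⟩ w hw => by
    rw [← hα ⟨q, Equiv.Perm.mem_alternatingGroup.2 hq⟩ h w hw hh, hall]; rfl
  have hfix5 : ∀ (d : A6) (w : ↥(Y.map π)), orderOf d = 5 → w ≠ 1 → α d w ≠ w := by
    intro d w hd hw he
    have h1 : α d = 1 := eq_one_of_five (by rw [hW]; norm_num) _
      (by rw [← map_pow, ← hd, pow_orderOf_eq_one, map_one]) (Or.inr ⟨w, hw, he⟩)
    have hker : α.ker = ⊤ := (MonoidHom.normal_ker α).eq_bot_or_eq_top.resolve_left fun e => by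
      have : d ∈ α.ker := h1
      rw [e, Subgroup.mem_bot] at this
      rw [this, orderOf_one] at hd
      norm_num at hd
    exact hne fun q => MonoidHom.mem_ker.1 (hker ▸ Subgroup.mem_top q)
  letI act : MulAction A6 ↥(Y.map π) := MulAction.compHom _ α
  haveI : Fact (Nat.Prime 5) := ⟨by norm_num⟩
  -- every non-trivial orbit has length `10` or `15`
  have horb : ∀ w : ↥(Y.map π), w ≠ 1 →
      (MulAction.orbit A6 w).ncard = 10 ∨ (MulAction.orbit A6 w).ncard = 15 := by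
    intro w hw
    have hsub : MulAction.orbit A6 w ⊆ {(1 : ↥(Y.map π))}ᶜ := by
      rintro _ ⟨q, rfl⟩
      show α q w ≠ 1
      exact fun e => hw ((MulEquiv.map_eq_one_iff (α q)).1 e)
    have hle : (MulAction.orbit A6 w).ncard ≤ 15 := by
      have := Set.ncard_le_ncard hsub (Set.toFinite _)
      rwa [Set.ncard_compl _ (Set.toFinite _), hW, Set.ncard_singleton] at this
    have h5 : 5 ∣ (MulAction.orbit A6 w).ncard := by
      have hmul := (MulAction.stabilizer A6 w).card_mul_index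
      rw [MulAction.index_stabilizer, card_A6] at hmul
      rcases ((by norm_num : Nat.Prime 5).dvd_mul).1 (hmul ▸ (by norm_num : (5 : ℕ) ∣ 360)) with h | h
      · obtain ⟨d, hd⟩ := exists_prime_orderOf_dvd_card' 5 h
        exact absurd d.2 fun hs => hfix5 (d : A6) w (by rw [Subgroup.orderOf_coe]; exact hd) hw hs
      · exact h
    have hne5 : ¬ (MulAction.orbit A6 w).ncard ≤ 5 := fun h => by
      have htop := A6_eq_top_of_index (MulAction.stabilizer A6 w) (by rw [MulAction.index_stabilizer]; exact h)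
      obtain ⟨d, hd⟩ := exists_order_five
      exact hfix5 d w hd hw (show d ∈ MulAction.stabilizer A6 w from htop ▸ Subgroup.mem_top d)
    omega
  have h15 : ∀ w : ↥(Y.map π), w ≠ 1 → (MulAction.orbit A6 w).ncard = 15 := by
    intro w hw
    refine (horb w hw).resolve_left fun h10 => ?_
    obtain ⟨u, hu1, hu⟩ : ∃ u : ↥(Y.map π), u ≠ 1 ∧ u ∉ MulAction.orbit A6 w := by
      by_contra hcon
      push Not at hcon
      have hsub : {(1 : ↥(Y.map π))}ᶜ ⊆ MulAction.orbit A6 w := fun u hu => hcon u hu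
      have := Set.ncard_le_ncard hsub (Set.toFinite _)
      rw [Set.ncard_compl _ (Set.toFinite _), hW, Set.ncard_singleton, h10] at this
      omega
    have hdis : Disjoint (MulAction.orbit A6 w) (MulAction.orbit A6 u) := by
      refine Set.disjoint_left.2 fun a ha hb => hu ?_
      rw [← MulAction.orbit_eq_iff.2 ha, MulAction.orbit_eq_iff.2 hb]
      exact MulAction.mem_orbit_self u
    have hsub : MulAction.orbit A6 w ∪ MulAction.orbit A6 u ⊆ {(1 : ↥(Y.map π))}ᶜ := by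
      rintro _ (⟨q, rfl⟩ | ⟨q, rfl⟩)
      · exact fun e => hw ((MulEquiv.map_eq_one_iff (α q)).1 e)
      · exact fun e => hu1 ((MulEquiv.map_eq_one_iff (α q)).1 e)
    have := Set.ncard_le_ncard hsub (Set.toFinite _)
    rw [Set.ncard_union_eq hdis, Set.ncard_compl _ (Set.toFinite _), hW, Set.ncard_singleton, h10] at this
    rcases horb u hu1 with h | h <;> omega
  set yb : ↥(Y.map π) := ⟨π y, Subgroup.mem_map_of_mem _ hy⟩ with hyb
  have hyb1 : yb ≠ 1 := fun e => hy1 (congrArg Subtype.val e)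
  refine ⟨fun w hw hw1 => ?_, MulAction.stabilizer A6 yb, ?_, fun q h hh => ?_⟩
  · have hall : MulAction.orbit A6 yb = {(1 : ↥(Y.map π))}ᶜ := by
      refine Set.eq_of_subset_of_ncard_le ?_ ?_ (Set.toFinite _)
      · rintro _ ⟨q, rfl⟩
        exact fun e => hyb1 ((MulEquiv.map_eq_one_iff (α q)).1 e)
      · rw [Set.ncard_compl _ (Set.toFinite _), hW, Set.ncard_singleton, h15 yb hyb1]
    have hwb : (⟨π w, Subgroup.mem_map_of_mem _ hw⟩ : ↥(Y.map π)) ∈ MulAction.orbit A6 yb := by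
      rw [hall]; exact fun e => hw1 (congrArg Subtype.val e)
    obtain ⟨q, hq⟩ := hwb
    obtain ⟨h, hh⟩ := hlift q
    exact ⟨q, h, ⟨hh, Equiv.Perm.mem_alternatingGroup.1 q.2⟩,
      (hα q h y hy hh).symm.trans (congrArg Subtype.val hq)⟩
  · have hmul := (MulAction.stabilizer A6 yb).card_mul_index
    rw [MulAction.index_stabilizer, card_A6, h15 yb hyb1] at hmul
    omega
  · rw [MulAction.mem_stabilizer_iff, ← hα q h y hy hh]
    exact ⟨fun e => congrArg Subtype.val e, fun e => Subtype.ext e⟩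

end Base

end Cfsg.Agent.Lib.LargeNine45
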