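import Cfsg.Agent.Lib.LargeNine45.Perm2

/-!
Abelian subgroups of exponent `2` of `A₆` (helper45).
-/

set_option autoImplicit false

namespace Cfsg.Agent.Lib.LargeNine45

open Equiv

set_option synthInstance.maxSize 1000 in
theorem exists_partner_even : ∀ s : P3, s * s = 1 → s ≠ 1 →
    ∃ d, d ^ 3 = 1 ∧ d * s * d⁻¹ * s ≠ 1 ∧ d * s * d⁻¹ * s ≠ s := by decide +kernel

set_option synthInstance.maxSize 1000 in
theorem conj_invol_even : ∀ s t : P3, s * s = 1 → s ≠ 1 → t * t = 1 → t ≠ 1 →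
    ∃ d, d ^ 3 = 1 ∧ d * s * d⁻¹ = t := by decide +kernel

theorem sign_of_pow_three {q : P6} (h : q ^ 3 = 1) : Perm.sign q = 1 := by
  have := congrArg Perm.sign h
  rw [map_pow, map_one] at this
  rcases Int.units_eq_one_or (Perm.sign q) with e | e
  · exact e
  · rw [e] at this; exact absurd this (by decide)

/-- Abelian subgroups of exponent `2` of `A₆` have order at most `4`. -/
theorem card_le_four (F : Subgroup P6) (he : ∀ f ∈ F, Perm.sign f = 1) (hs : ∀ f ∈ F, f * f = 1)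
    (hc : ∀ f ∈ F, ∀ f' ∈ F, f * f' = f' * f) : Nat.card F ≤ 4 := by
  by_cases hbot : F = ⊥
  · rw [hbot, Subgroup.card_bot]; norm_num
  obtain ⟨f', hf'⟩ := F.ne_bot_iff_exists_ne_one.1 hbot
  obtain ⟨f, hf, hf1⟩ : ∃ f, f ∈ F ∧ f ≠ 1 :=
    ⟨(f' : P6), f'.2, fun e => hf' (Subtype.ext e)⟩
  obtain ⟨q, hq⟩ := exists_conj_base f (he f hf) (hs f hf) hf1
  let C : Subgroup P6 := (alternatingGroup (Fin 6)) ⊓ Subgroup.centralizer {swap 0 2 * swap 1 3}
  let F' : Subgroup P6 := F.map (MulAut.conj q).toMonoidHom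
  have hcard : Nat.card F' = Nat.card F := Subgroup.card_map_of_injective (MulAut.conj q).injective
  have hle : F' ≤ C := by
    rintro _ ⟨a, ha, rfl⟩
    refine ⟨Equiv.Perm.mem_alternatingGroup.2 ?_, Subgroup.mem_centralizer_singleton_iff.2 ?_⟩
    · simp [he a ha]
    · simp only [MulEquiv.coe_toMonoidHom, MulAut.conj_apply]
      rw [← hq]
      calc q * a * q⁻¹ * (q * f * q⁻¹) = q * (a * f) * q⁻¹ := by group
        _ = q * (f * a) * q⁻¹ := by rw [hc a ha f hf]
        _ = _ := by group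
  have hC : Nat.card C = 8 := by
    rw [← card_centralizer_invol, ← Nat.card_eq_finsetCard]
    refine Nat.card_congr (Equiv.subtypeEquivRight fun a => ?_)
    simp only [C, Subgroup.mem_inf, Equiv.Perm.mem_alternatingGroup,
      Subgroup.mem_centralizer_singleton_iff, Finset.mem_filter, Finset.mem_univ, true_and]
  have hne : F' ≠ C := fun e => by
    obtain ⟨a, b, ha, hb, hab⟩ := exists_noncomm_eight
    have hmem : ∀ c, (Perm.sign c = 1 ∧
        c * (swap 0 2 * swap 1 3) = (swap 0 2 * swap 1 3) * c) → c ∈ F' := fun c hcc => by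
      rw [e]
      exact ⟨Equiv.Perm.mem_alternatingGroup.2 hcc.1, Subgroup.mem_centralizer_singleton_iff.2 hcc.2⟩
    obtain ⟨a', ha', rfl⟩ := hmem a ha
    obtain ⟨b', hb', rfl⟩ := hmem b hb
    exact hab (by rw [← map_mul, hc a' ha' b' hb', map_mul])
  have hdvd : Nat.card F' ∣ 8 := hC ▸ Subgroup.card_dvd_of_le hle
  have hlt : Nat.card F' ≠ 8 := fun h8 => hne (Subgroup.eq_of_le_of_card_ge hle (by omega))
  have := Nat.le_of_dvd (by norm_num) hdvd
  rw [← hcard]
  obtain ⟨k, hk, e⟩ := (Nat.dvd_prime_pow Nat.prime_two).1 (show Nat.card F' ∣ 2 ^ 3 from hdvd)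
  rw [e] at hlt ⊢
  interval_cases k <;> omega

end Cfsg.Agent.Lib.LargeNine45
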