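import Cfsg.Agent.Lib.LargeNine45.Pair
import Cfsg.Agent.Lib.LargeNine45.Perm3

/-!
The family of conjugates of `z` inside `X`: every one has an axis `s ∈ S₃`, and it lies in the
commutator group `A` of order `2⁵` of a lift of `(s, 1)` (helper45).
-/

set_option autoImplicit false

namespace Cfsg.Agent.Lib.LargeNine45

open Equiv LargeExtra
open scoped commutatorElement

/-- An abelian subgroup of exponent `2` of `S₆` has order at most `8`. -/
theorem card_le_eight (E : Subgroup P6) (hs : ∀ f ∈ E, f * f = 1)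
    (hc : ∀ f ∈ E, ∀ f' ∈ E, f * f' = f' * f) : Nat.card E ≤ 8 := by
  have h2 := Subgroup.card_mul_index ((Perm.sign (α := Fin 6)).domRestrict E).ker
  rw [Subgroup.index_ker, MonoidHom.domRestrict_range] at h2
  have hr : Nat.card (E.map (Perm.sign (α := Fin 6))) ≤ 2 :=
    (Subgroup.card_le_card_group _).trans (le_of_eq (by simp [Nat.card_eq_fintype_card]))
  have hk : Nat.card ((Perm.sign (α := Fin 6)).domRestrict E).ker =
      Nat.card ↥(E ⊓ (Perm.sign (α := Fin 6)).ker) := by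
    rw [MonoidHom.ker_domRestrict]
    exact Nat.card_congr ⟨fun a => ⟨(a : E), (a : E).2, a.2⟩, fun a => ⟨⟨a, a.2.1⟩, a.2.2⟩,
      fun _ => rfl, fun _ => rfl⟩
  have := card_le_four (E ⊓ (Perm.sign (α := Fin 6)).ker) (fun f hf => hf.2) (fun f hf => hs f hf.1)
    fun f hf f' hf' => hc f hf.1 f' hf'.1
  rw [← h2, hk]
  exact (Nat.mul_le_mul this hr)

variable {H : Type*} [Group H] [Finite H] {X : Subgroup H} {z : H} {φ : H →* T}
variable [(Subgroup.zpowers z).Normal]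

local notation "π" => pz z

/-- The conjugates of `z` in `X` other than `z`, each with its subgroup `S`. -/
structure Fam (X : Subgroup H) (z : H) (C : H → Prop) (S : H → Subgroup H)
    [(Subgroup.zpowers z).Normal] : Prop where
  pair : ∀ v, C v → Pair X z v (S v)
  conj : ∀ h v, C v → C (h * v * h⁻¹)
  equiv : ∀ h v, C v → ∀ s ∈ S v, h * s * h⁻¹ ∈ S (h * v * h⁻¹)

namespace Base

theorem exists_move (B : Base X z φ) {v : H} (hv : v ∈ X) (hv1 : π v ≠ 1) :
    ∃ q ∈ X, q * v * q⁻¹ = v * z :=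
  B.good.exists_move hv (fun e => hv1 (by rw [e, map_one])) fun e => hv1 (by rw [e, pz_z])

theorem exists_fix (B : Base X z φ) {h v w : H} (hw : w ∈ X) (hw1 : π w ≠ 1)
    (hfix : π (h * v * h⁻¹) = π w) : ∃ h', φ h' = φ h ∧ h' * v * h'⁻¹ = w := by
  rcases B.eq_or_of_pz hfix with e | e
  · exact ⟨h, rfl, e.symm⟩
  obtain ⟨q, hq, hqw⟩ := B.exists_move hw hw1
  refine ⟨q * h, by rw [map_mul, B.mem_iff.2 hq, one_mul], ?_⟩
  have e' : h * v * h⁻¹ = w * z := by rw [e, mul_assoc _ z z, B.good.x_sq, mul_one]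
  calc q * h * v * (q * h)⁻¹ = q * (h * v * h⁻¹) * q⁻¹ := by group
    _ = q * w * q⁻¹ * (q * z * q⁻¹) := by rw [e']; group
    _ = w := by rw [hqw, (B.zc q).eq, mul_inv_cancel_right, mul_assoc, B.good.x_sq, mul_one]

theorem mem_X_of_fix (B : Base X z φ) {h : H} (hf : ∀ x ∈ X, π (h * x * h⁻¹) = π x) : h ∈ X :=
  mem_of_inner B.good h fun x hx => by
    rcases B.eq_or_of_pz (hf x hx).symm with e | e
    exacts [Or.inl e, Or.inr e]

theorem mem_of_commute32 (B : Base X z φ) {M : Subgroup H} (hM : M ≤ X) (hz : z ∈ M)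
    (hab : ∀ a ∈ M, ∀ b ∈ M, Commute a b) (h32 : Nat.card M = 32) {y : H} (hy : y ∈ X)
    (hc : ∀ a ∈ M, Commute y a) : y ∈ M := by
  have h := mul_centIn_le B.good M hM hz
  rw [h32, B.card] at h
  have hsub : (M : Set H) ⊆ centIn X M := fun a ha => ⟨hM ha, fun b hb => (hab a ha b hb).eq⟩
  have hM' : (M : Set H).ncard = 32 := by rw [← h32]; exact (Nat.card_coe_set_eq _).symm
  have heq : (M : Set H) = centIn X M :=
    Set.eq_of_subset_of_ncard_le hsub (by omega) (Set.toFinite _)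
  show y ∈ (M : Set H)
  rw [heq]
  exact ⟨hy, fun b hb => (hc b hb).eq⟩

theorem pz_comm_eq (B : Base X z φ) {f f' x : H} (h : φ f = φ f') (hx : x ∈ X) :
    π ⁅f, x⁆ = π ⁅f', x⁆ := by
  simp only [commutatorElement_def, map_mul π _ x⁻¹]
  rw [B.pz_conj_congr h hx]

end Base

/-- `s` is the axis of `v`. -/
def IsAxis (φ : H →* T) (S : H → Subgroup H) (v : H) (s : P3) : Prop :=
  s * s = 1 ∧ s ≠ 1 ∧ (∀ r ∈ (S v).map φ, r.1 = 1 ∨ r.1 = s) ∧ ∃ r ∈ (S v).map φ, r.1 = s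

namespace Fam

variable {C : H → Prop} {S : H → Subgroup H} {v : H} {s : P3}

theorem eight_le_img (F : Fam X z C S) (B : Base X z φ) (hv : C v) :
    8 ≤ Nat.card ((S v).map φ) := by
  have h1 := (F.pair v hv).card_img B
  have h2 := (F.pair v hv).card_I_le B
  by_contra h
  have := Nat.mul_le_mul (Nat.le_of_lt_succ (Nat.lt_of_not_le h)) h2
  omega

theorem card_snd_le (F : Fam X z C S) (B : Base X z φ) (hv : C v) :
    Nat.card (((S v).map φ).map (MonoidHom.snd P3 P6)) ≤ 8 := by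
  refine card_le_eight _ ?_ ?_
  · rintro _ ⟨r, hr, rfl⟩
    rw [← map_mul, (F.pair v hv).img_sq B hr, map_one]
  · rintro _ ⟨r, hr, rfl⟩ _ ⟨r', hr', rfl⟩
    rw [← map_mul, ← map_mul, ((F.pair v hv).img_comm B hr hr').eq]

theorem img_norm (F : Fam X z C S) (B : Base X z φ) (hv : C v) {h : H}
    (hfix : π (h * v * h⁻¹) = π v) {r : T} (hr : r ∈ (S v).map φ) :
    φ h * r * (φ h)⁻¹ ∈ (S v).map φ := by
  have P := F.pair v hv
  obtain ⟨h', e, hh'⟩ := B.exists_fix P.vX P.pv hfix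
  obtain ⟨t, ht, rfl⟩ := hr
  refine ⟨h' * t * h'⁻¹, P.norm h' (conj_eq_iff_comm.1 hh') t ht, ?_⟩
  rw [map_mul, map_mul, map_inv, e]

/-- An element whose image centralises a small image of `S v` fixes `v`. -/
theorem fix_of_comm_img (F : Fam X z C S) (B : Base X z φ) (hv : C v)
    (h32 : Nat.card ↥(X ⊓ S v) = 32) {h : H} (hc : ∀ r ∈ (S v).map φ, Commute (φ h) r) :
    π (h * v * h⁻¹) = π v := by
  refine (shared B (F.pair v hv) (F.pair _ (F.conj h v hv)) ?_ h32).symm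
  apply le_antisymm
  · rintro _ ⟨t, ht, rfl⟩
    refine ⟨h * t * h⁻¹, F.equiv h v hv t ht, ?_⟩
    rw [map_mul, map_mul, map_inv, (hc _ (Subgroup.mem_map_of_mem _ ht)).eq, mul_inv_cancel_right]
  · rintro _ ⟨t, ht, rfl⟩
    have ht' := F.equiv h⁻¹ _ (F.conj h v hv) t ht
    rw [show h⁻¹ * (h * v * h⁻¹) * h⁻¹⁻¹ = v by group] at ht'
    refine ⟨_, ht', ?_⟩
    have hcm := (hc _ (Subgroup.mem_map_of_mem φ ht')).eq
    calc φ (h⁻¹ * t * h⁻¹⁻¹) = φ h * φ (h⁻¹ * t * h⁻¹⁻¹) * (φ h)⁻¹ := by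
          rw [hcm, mul_inv_cancel_right]
      _ = φ t := by simp only [map_mul, map_inv]; group

theorem exists_fst (F : Fam X z C S) (B : Base X z φ) (hv : C v) :
    ∃ r ∈ (S v).map φ, r.1 ≠ 1 := by
  by_contra hno
  push Not at hno
  have P := F.pair v hv
  have hinj : Nat.card ((S v).map φ) ≤ 8 := by
    refine le_trans (Nat.card_le_card_of_injective
      (fun r => (⟨_, Subgroup.mem_map_of_mem (MonoidHom.snd P3 P6) r.2⟩ :
        ↥(((S v).map φ).map (MonoidHom.snd P3 P6)))) ?_) (F.card_snd_le B hv)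
    intro a b e
    exact Subtype.ext (Prod.ext ((hno _ a.2).trans (hno _ b.2).symm) (congrArg Subtype.val e))
  have h8 : Nat.card ((S v).map φ) = 8 := le_antisymm hinj (F.eight_le_img B hv)
  have h32 : Nat.card ↥(X ⊓ S v) = 32 := by
    have := P.card_img B; rw [h8] at this; omega
  obtain ⟨p, hp3, hp1⟩ := three_exists
  obtain ⟨c0, hc0⟩ := B.surjC p hp3
  have hfix : π (c0 * v * c0⁻¹) = π v := F.fix_of_comm_img B hv h32 fun r hr => by
    rw [hc0]; exact Prod.ext (by simp [hno r hr]) (by simp)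
  obtain ⟨c, hφc, hcv⟩ := B.exists_fix P.vX P.pv hfix
  rw [hc0] at hφc
  have hcc : Commute c v := conj_eq_iff_comm.1 hcv
  have hc3 : c ^ 3 ∈ X := B.mem_iff.1 (by rw [map_pow, hφc, Prod.pow_mk, hp3, one_pow]; rfl)
  have hI : ∀ i ∈ X ⊓ S v, π (c * i * c⁻¹) = π i := fun i hi => by
    have hy : c * i * c⁻¹ ∈ X ⊓ S v := ⟨B.conj_mem c hi.1, P.norm c hcc i hi.2⟩
    have hj : ⁅c, i⁆ ∈ S v := by rw [commutatorElement_def]; exact mul_mem hy.2 (inv_mem hi.2)
    have hcom : ∀ t ∈ S v, Commute ⁅c, i⁆ t := fun t ht => by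
      have ht0 : c⁻¹ * t * c ∈ S v := by simpa using P.norm c⁻¹ hcc.inv_left t ht
      have hφ0 : φ (c⁻¹ * t * c) = φ t := by
        have h1 := hno _ (Subgroup.mem_map_of_mem φ ht)
        simp only [map_mul, map_inv, hφc]
        exact Prod.ext (by simp [h1]) (by simp)
      have hsame : c⁻¹ * t * c * i * (c⁻¹ * t * c)⁻¹ = t * i * t⁻¹ := by
        have h0 := B.pz_conj_congr hφ0 hi.1
        rcases P.comm _ ht0 i hi.2 with e | e <;> rcases P.comm t ht i hi.2 with e' | e' <;>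
          rw [e, e'] at h0 ⊢
        · rw [map_mul] at h0; exact absurd (left_eq_mul.1 h0) P.pv
        · rw [map_mul] at h0; exact absurd (mul_eq_left.1 h0) P.pv
      have hy' : t * (c * i * c⁻¹) * t⁻¹ = c * (t * i * t⁻¹) * c⁻¹ := by rw [← hsame]; group
      refine Commute.symm (conj_eq_iff_comm.1 ?_)
      rw [commutatorElement_def]
      calc t * (c * i * c⁻¹ * i⁻¹) * t⁻¹ = t * (c * i * c⁻¹) * t⁻¹ * (t * i * t⁻¹)⁻¹ := by group
        _ = c * (t * i * t⁻¹) * c⁻¹ * (t * i * t⁻¹)⁻¹ := by rw [hy']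
        _ = c * i * c⁻¹ * i⁻¹ := by
          rcases P.comm t ht i hi.2 with e | e <;> rw [e]
          calc c * (i * v) * c⁻¹ * (i * v)⁻¹ = c * i * c⁻¹ * (c * v * c⁻¹ * v⁻¹) * i⁻¹ := by group
            _ = _ := by rw [hcv]; group
    refine B.three hc3 hi.1 ?_
    rcases P.centre_cases B hj hcom with e | e
    · simp only [map_mul, map_inv, e]; group
    · calc π (c * ⁅c, i⁆ * c⁻¹) = π (c * v * c⁻¹) := by simp only [map_mul, map_inv, e]
        _ = π ⁅c, i⁆ := by rw [hcv, e]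
  refine hp1 (congrArg Prod.fst (hφc.symm.trans (B.mem_iff.2 (B.mem_X_of_fix fun x hx => ?_))))
  have hmem : ⁅c, x⁆ ∈ X ⊓ S v :=
    B.mem_of_commute32 inf_le_left (P.z_mem_I B) (fun a ha b hb => P.comm_I B ha hb) h32
      (B.comm_mem c hx) fun a ha =>
        B.commute_of_Im_Fx (B.mem_Im.2 ⟨x, hx, rfl⟩) (mem_Fx.2 ⟨ha.1, hI a ha⟩)
  exact B.three hc3 hx (hI _ hmem)

theorem exists_axis (F : Fam X z C S) (B : Base X z φ) (hv : C v) : ∃ s, IsAxis φ S v s := by
  obtain ⟨r0, hr0, h1⟩ := F.exists_fst B hv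
  have P := F.pair v hv
  have h2 : r0.1 * r0.1 = 1 := congrArg Prod.fst (P.img_sq B hr0)
  refine ⟨r0.1, h2, h1, fun r hr => ?_, r0, hr0, rfl⟩
  rcases invol_three r.1 r0.1 (congrArg Prod.fst (P.img_sq B hr)) h2
    (congrArg Prod.fst (P.img_comm B hr hr0).eq) with e | e | e
  exacts [Or.inl e, absurd e h1, Or.inr e]

/-- Elements fixing `v` respect the axis. -/
theorem fst_of_fix (F : Fam X z C S) (B : Base X z φ) (hv : C v) (hax : IsAxis φ S v s) {h : H}
    (hfix : π (h * v * h⁻¹) = π v) : (φ h).1 = 1 ∨ (φ h).1 = s := by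
  obtain ⟨r, hr, hr1⟩ := hax.2.2.2
  have hmem := F.img_norm B hv hfix hr
  refine comm_invol_three s _ hax.1 hax.2.1 ?_
  rcases hax.2.2.1 _ hmem with e | e <;> simp only [Prod.fst_mul, Prod.fst_inv, hr1] at e
  · exact absurd (by rwa [mul_inv_eq_one, mul_eq_left] at e) hax.2.1
  · exact mul_inv_eq_iff_eq_mul.1 e

theorem card_img_le (F : Fam X z C S) (B : Base X z φ) (hv : C v) (hax : IsAxis φ S v s) :
    Nat.card ((S v).map φ) ≤ 16 := by
  have hle := Nat.card_le_card_of_injective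
    (fun r : ↥((S v).map φ) => ((⟨r.1.1, hax.2.2.1 _ r.2⟩ : {a : P3 // a = 1 ∨ a = s}),
      (⟨_, Subgroup.mem_map_of_mem (MonoidHom.snd P3 P6) r.2⟩ :
        ↥(((S v).map φ).map (MonoidHom.snd P3 P6)))))
    (fun a b e => Subtype.ext (Prod.ext (congrArg (fun p => (p.1 : P3)) e)
      (congrArg (fun p => (p.2 : P6)) e)))
  rw [Nat.card_prod] at hle
  have h2 : Nat.card {a : P3 // a = 1 ∨ a = s} ≤ 2 := by
    refine le_trans (le_of_eq (Nat.card_coe_set_eq ({1, s} : Set P3))) ?_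
    exact (Set.ncard_insert_le _ _).trans (by rw [Set.ncard_singleton])
  have := Nat.mul_le_mul h2 (F.card_snd_le B hv)
  omega

theorem axis_mem_of_lt (F : Fam X z C S) (B : Base X z φ) (hv : C v) (hax : IsAxis φ S v s)
    (h : 8 < Nat.card ((S v).map φ)) : (s, 1) ∈ (S v).map φ := by
  by_contra hno
  refine absurd (le_trans (Nat.card_le_card_of_injective
    (fun r : ↥((S v).map φ) => (⟨_, Subgroup.mem_map_of_mem (MonoidHom.snd P3 P6) r.2⟩ :
      ↥(((S v).map φ).map (MonoidHom.snd P3 P6)))) ?_) (F.card_snd_le B hv)) (by omega)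
  intro a b e
  have e2 : a.1.2 = b.1.2 := congrArg Subtype.val e
  refine Subtype.ext (Prod.ext ?_ e2)
  have hab := mul_mem a.2 (inv_mem b.2)
  rcases hax.2.2.1 _ hab with e1 | e1
  · exact mul_inv_eq_one.1 e1
  · refine absurd ?_ hno
    have : (a : T) * (b : T)⁻¹ = (s, 1) := Prod.ext e1 (by simp [e2])
    exact this ▸ hab

theorem sigma_fix (F : Fam X z C S) (B : Base X z φ) (hv : C v) (hax : IsAxis φ S v s) {σ : H}
    (hσ : φ σ = (s, 1)) : π (σ * v * σ⁻¹) = π v := by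
  have P := F.pair v hv
  by_cases h : Nat.card ((S v).map φ) = 8
  · refine F.fix_of_comm_img B hv (by have := P.card_img B; rw [h] at this; omega) fun r hr => ?_
    rw [hσ]
    refine Prod.ext ?_ (by simp)
    show s * r.1 = r.1 * s
    rcases hax.2.2.1 r hr with e | e <;> rw [e]
    simp
  · obtain ⟨t, ht, e⟩ := F.axis_mem_of_lt B hv hax
      (lt_of_le_of_ne (F.eight_le_img B hv) (Ne.symm h))
    rw [B.pz_conj_congr (hσ.trans e.symm) P.vX, conj_eq_iff_comm.2 (P.cv t ht).eq]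

theorem exists_even (F : Fam X z C S) (B : Base X z φ) (hv : C v) (hax : IsAxis φ S v s) :
    ∃ f ∈ S v, ∃ q, IsLift φ q f ∧ q ≠ 1 ∧ q * q = 1 := by
  by_contra hno
  push Not at hno
  have P := F.pair v hv
  have hle := Nat.card_le_card_of_injective
    (fun r : ↥((S v).map φ) => ((⟨r.1.1, hax.2.2.1 _ r.2⟩ : {a : P3 // a = 1 ∨ a = s}),
      Perm.sign r.1.2)) (by
    intro a b e
    have e1 : a.1.1 = b.1.1 := congrArg (fun p => (p.1 : P3)) e
    have e2 : Perm.sign a.1.2 = Perm.sign b.1.2 := congrArg Prod.snd e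
    have hab : (a : T) * (b : T)⁻¹ ∈ (S v).map φ := mul_mem a.2 (inv_mem b.2)
    obtain ⟨f, hf, he⟩ := hab
    have hlift : IsLift φ (a.1.2 * b.1.2⁻¹) f :=
      ⟨he.trans (Prod.ext (by simp [e1]) rfl), by simp [e2]⟩
    refine Subtype.ext (Prod.ext e1 (mul_inv_eq_one.1 ?_))
    by_contra hne
    exact hno f hf _ hlift hne (congrArg Prod.snd (P.img_sq B ⟨f, hf, hlift.1⟩)))
  rw [Nat.card_prod] at hle
  have h2 : Nat.card {a : P3 // a = 1 ∨ a = s} ≤ 2 := by
    refine le_trans (le_of_eq (Nat.card_coe_set_eq ({1, s} : Set P3))) ?_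
    exact (Set.ncard_insert_le _ _).trans (by rw [Set.ncard_singleton])
  have h3 : Nat.card ℤˣ = 2 := by simp [Nat.card_eq_fintype_card]
  have := F.eight_le_img B hv
  rw [h3] at hle
  omega

theorem not_trivial (F : Fam X z C S) (B : Base X z φ) (hv : C v) (hax : IsAxis φ S v s) {σ : H}
    (hσ : φ σ = (s, 1)) : ¬ B.Trivial (B.Im σ) := by
  intro htr
  have P := F.pair v hv
  obtain ⟨d, hd3, hd1, hd2⟩ := exists_partner_even s hax.1 hax.2.1
  obtain ⟨D, hD⟩ := B.surjC d hd3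
  let c := D * σ * D⁻¹ * σ
  have hφc : φ c = (d * s * d⁻¹ * s, 1) := by simp [c, hD, hσ]
  have hcfix : π (c * v * c⁻¹) ≠ π v := fun e => by
    rcases F.fst_of_fix B hv hax e with h | h <;> rw [hφc] at h
    exacts [hd1 h, hd2 h]
  have hD' : ∀ q l, IsLift φ q l → ∀ y ∈ B.Im (D * σ * D⁻¹), π (l * y * l⁻¹) = π y := by
    intro q l hl y hy
    have hy' := B.conj_mem_Im (h := D⁻¹) hy
    rw [show D⁻¹ * (D * σ * D⁻¹) * D⁻¹⁻¹ = σ by group] at hy'
    have hl' : IsLift φ q (D⁻¹ * l * D) :=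
      ⟨by rw [map_mul, map_mul, map_inv, hl.1, hD]; exact Prod.ext (by simp) (by simp), hl.2⟩
    have h := htr q _ hl' _ hy'
    simp only [map_mul, map_inv, inv_inv] at h ⊢
    calc π l * π y * (π l)⁻¹ = π D * ((π D)⁻¹ * π l * π D * ((π D)⁻¹ * π y * π D) *
          ((π D)⁻¹ * π l * π D)⁻¹) * (π D)⁻¹ := by group
      _ = π y := by rw [h]; group
  have hfix : ∀ q l, IsLift φ q l → ∀ x ∈ X, π (l * ⁅c, x⁆ * l⁻¹) = π ⁅c, x⁆ := by
    intro q l hl x hx
    have e : ⁅c, x⁆ = ⁅D * σ * D⁻¹, ⁅σ, x⁆⁆ * ⁅σ, x⁆ * ⁅D * σ * D⁻¹, x⁆ := by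
      simp only [c, commutatorElement_def]; group
    have h1 := hD' q l hl _ (B.mem_Im.2 ⟨_, B.comm_mem σ hx, rfl⟩)
    have h2 := htr q l hl _ (B.mem_Im.2 ⟨x, hx, rfl⟩)
    have h3 := hD' q l hl _ (B.mem_Im.2 ⟨x, hx, rfl⟩)
    simp only [map_mul, map_inv] at h1 h2 h3
    rw [e]
    simp only [map_mul, map_inv]
    calc π l * (π ⁅D * σ * D⁻¹, ⁅σ, x⁆⁆ * π ⁅σ, x⁆ * π ⁅D * σ * D⁻¹, x⁆) * (π l)⁻¹
        = π l * π ⁅D * σ * D⁻¹, ⁅σ, x⁆⁆ * (π l)⁻¹ * (π l * π ⁅σ, x⁆ * (π l)⁻¹) *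
          (π l * π ⁅D * σ * D⁻¹, x⁆ * (π l)⁻¹) := by group
      _ = _ := by rw [h1, h2, h3]
  by_cases hcase : ∃ f ∈ S v, ∃ q, IsLift φ q f ∧ ∃ i ∈ X ⊓ S v, ¬ Commute f i
  · obtain ⟨f, hf, q, hl, i, hi, hfi⟩ := hcase
    have e1 : f * i * f⁻¹ = i * v :=
      (P.comm f hf i hi.2).resolve_left fun e => hfi (conj_eq_iff_comm.1 e)
    have h := hfix q f hl i hi.1
    have hcomm : φ (f * c) = φ (c * f) := by
      rw [map_mul φ f c, map_mul φ c f, hl.1, hφc]; exact Prod.ext (by simp) (by simp)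
    have h4 : π (f * (c * i * c⁻¹) * f⁻¹) = π (c * (i * v) * c⁻¹) := by
      rw [← e1, show f * (c * i * c⁻¹) * f⁻¹ = f * c * i * (f * c)⁻¹ by group,
        show c * (f * i * f⁻¹) * c⁻¹ = c * f * i * (c * f)⁻¹ by group]
      exact B.pz_conj_congr hcomm hi.1
    refine hcfix ?_
    rw [show f * ⁅c, i⁆ * f⁻¹ = f * (c * i * c⁻¹) * f⁻¹ * (f * i * f⁻¹)⁻¹ by
      rw [commutatorElement_def]; group, map_mul, h4, e1] at h
    have key : π (c * i * c⁻¹) * π (c * v * c⁻¹) * (π v)⁻¹ = π (c * i * c⁻¹) := by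
      have h' : π (c * (i * v) * c⁻¹) * π ((i * v)⁻¹) * π i = π ⁅c, i⁆ * π i := by rw [h]
      simp only [commutatorElement_def, map_mul, map_inv] at h' ⊢
      calc _ = π c * (π i * π v) * (π c)⁻¹ * (π i * π v)⁻¹ * π i := by group
        _ = _ := by rw [h']; group
    rw [mul_assoc, mul_eq_left, mul_inv_eq_one] at key
    exact key
  push Not at hcase
  obtain ⟨f, hf, q, hl, hq1, hq2⟩ := F.exists_even B hv hax
  have hI : Nat.card ↥(X ⊓ S v) ≠ 32 := fun h32 => by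
    have : φ f = 1 := B.mem_iff.2 (P.mem_I_of_commute B h32 hf (hcase f hf q hl)).1
    rw [hl.1] at this
    exact hq1 (congrArg Prod.snd this)
  have h1 := P.card_img B
  have hR : Nat.card ((S v).map φ) ≠ 8 := fun e => hI (by rw [e] at h1; omega)
  have hmem := F.axis_mem_of_lt B hv hax (lt_of_le_of_ne (F.eight_le_img B hv) (Ne.symm hR))
  obtain ⟨t, ht, hφt⟩ := hmem
  obtain ⟨i, hi, hti⟩ : ∃ i ∈ X ⊓ S v, ¬ Commute t i := by
    by_contra hall
    push Not at hall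
    let M := S v ⊓ Subgroup.centralizer ((X ⊓ S v : Subgroup H) : Set H)
    have hM : ∀ a ∈ S v, (∀ i ∈ X ⊓ S v, Commute a i) → a ∈ M := fun a ha h =>
      ⟨ha, Subgroup.mem_centralizer_iff.2 fun b hb => (h b hb).eq.symm⟩
    have hd := P.dual (X ⊓ S v) inf_le_right ⟨P.vX, P.vS⟩
    have hMX : Nat.card M = Nat.card (M.map φ) * Nat.card ↥(X ⊓ S v) := by
      have h2 := Subgroup.card_mul_index (φ.domRestrict M).ker
      rw [Subgroup.index_ker, MonoidHom.domRestrict_range] at h2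
      have hk : Nat.card (φ.domRestrict M).ker = Nat.card ↥(X ⊓ S v) := by
        rw [MonoidHom.ker_domRestrict, B.ker]
        exact Nat.card_congr ⟨fun a => ⟨(a : M), a.2, (a : M).2.1⟩,
          fun a => ⟨⟨a, hM a a.2.2 fun b hb => P.comm_I B a.2 hb⟩, a.2.1⟩,
          fun _ => rfl, fun _ => rfl⟩
      rw [← hk, ← h2, mul_comm]
    have hhalf : Nat.card ((S v).map φ) ≤ 2 * Nat.card (M.map φ) := by
      let χ : T →* ℤˣ := Perm.sign.comp (MonoidHom.snd P3 P6)
      have h2 := Subgroup.card_mul_index (χ.domRestrict ((S v).map φ)).ker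
      rw [Subgroup.index_ker] at h2
      have hr : Nat.card (χ.domRestrict ((S v).map φ)).range ≤ 2 :=
        (Subgroup.card_le_card_group _).trans (le_of_eq (by simp [Nat.card_eq_fintype_card]))
      have hk : Nat.card (χ.domRestrict ((S v).map φ)).ker ≤ Nat.card (M.map φ) := by
        refine Nat.card_le_card_of_injective (fun r => ⟨((r : ↥((S v).map φ)) : T), ?_⟩) ?_
        · obtain ⟨a, ha, hae⟩ := (r : ↥((S v).map φ)).2
          have hsg : Perm.sign ((r : ↥((S v).map φ)) : T).2 = 1 := r.2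
          rcases hax.2.2.1 _ (r : ↥((S v).map φ)).2 with e | e
          · exact ⟨a, hM a ha (hcase a ha _ ⟨hae.trans (Prod.ext e rfl), hsg⟩), hae⟩
          · have hlift : IsLift φ ((r : ↥((S v).map φ)) : T).2 (t⁻¹ * a) :=
              ⟨by rw [map_mul, map_inv, hφt, hae]; exact Prod.ext (by simp [e]) (by simp), hsg⟩
            refine ⟨a, ?_, hae⟩
            have := mul_mem (hM t ht hall)
              (hM _ (mul_mem (inv_mem ht) ha) (hcase _ (mul_mem (inv_mem ht) ha) _ hlift))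
            rwa [mul_inv_cancel_left] at this
        · intro a b e
          exact Subtype.ext (Subtype.ext (congrArg (fun w => (w : ↥(M.map φ)).1) e))
      rw [← h2]
      calc _ ≤ Nat.card (M.map φ) * 2 := Nat.mul_le_mul hk hr
        _ = _ := mul_comm _ _
    have hI32 := P.card_I_le B
    have h16 := F.card_img_le B hv hax
    have h16' : 16 ≤ Nat.card ↥(X ⊓ S v) := by
      by_contra hlt
      have := Nat.mul_le_mul h16 (Nat.le_of_lt_succ (Nat.lt_of_not_le hlt))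
      omega
    have h128 : 128 ≤ Nat.card M := by
      rw [hMX]
      have := Nat.mul_le_mul_right (Nat.card ↥(X ⊓ S v)) hhalf
      rw [h1, mul_assoc] at this
      omega
    have := Nat.mul_le_mul h16' h128
    have hMd : Nat.card ↥(X ⊓ S v) * Nat.card M ≤ 1024 := hd
    omega
  have hvIm : v ∈ B.Im σ := B.mem_Im.2 ⟨i, hi.1, by
    rw [B.pz_comm_eq (hσ.trans hφt.symm) hi.1, commutatorElement_def,
      (P.comm t ht i hi.2).resolve_left fun e => hti (conj_eq_iff_comm.1 e), (P.cv i hi.2).eq,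
      mul_inv_cancel_right]⟩
  obtain ⟨p, hp, hne⟩ := exists_conj_noncomm q hl.2 hq2 hq1
  obtain ⟨l, hlp⟩ := B.surjA p hp
  have hR' := F.img_norm B hv (htr p l ⟨hlp, hp⟩ v hvIm) (Subgroup.mem_map_of_mem φ hf)
  have := congrArg Prod.snd (P.img_comm B (Subgroup.mem_map_of_mem φ hf) hR').eq
  simp only [hl.1, hlp, Prod.snd_mul, Prod.snd_inv] at this
  exact hne this

end Fam

end Cfsg.Agent.Lib.LargeNine45
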