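import Cfsg.Agent.Lib.LargeNine45.Frame

/-!
The subgroup `A` of a conjugate `v ∈ X` of `z`: order `2⁵`, transitive action of the lifts of `1 × A₆`,
it gives a `AxisFrame` (helper45).
-/

set_option autoImplicit false

namespace Cfsg.Agent.Lib.LargeNine45

open Equiv LargeExtra
open scoped commutatorElement

variable {H : Type*} [Group H] [Finite H] {X : Subgroup H} {z : H} {φ : H →* T}
variable [(Subgroup.zpowers z).Normal]

local notation "π" => pz z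

/-- A conjugate `v`, its axis `s`, a lift `σ` of `(s, 1)` and an element `D` moving the axis. -/
structure Ctx (X : Subgroup H) (z : H) (φ : H →* T) (C : H → Prop) (S : H → Subgroup H) (v : H)
    (s : P3) (σ D : H) [(Subgroup.zpowers z).Normal] : Prop where
  base : Base X z φ
  fam : Fam X z C S
  hv : C v
  hax : IsAxis φ S v s
  hσ : φ σ = (s, 1)
  hD : ∃ d, φ D = (d, 1) ∧ d * s * d⁻¹ * s ≠ 1 ∧ d * s * d⁻¹ * s ≠ s

variable {C : H → Prop} {S : H → Subgroup H} {v : H} {s : P3} {σ D : H}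

theorem exists_ctx (B : Base X z φ) (F : Fam X z C S) (hS : ∀ s : P3, ∃ h, φ h = (s, 1)) (hv : C v) :
    ∃ s σ D, Ctx X z φ C S v s σ D := by
  obtain ⟨s, hs⟩ := F.exists_axis B hv
  obtain ⟨σ, hσ⟩ := hS s
  obtain ⟨d, hd3, hd1, hd2⟩ := exists_partner_even s hs.1 hs.2.1
  obtain ⟨D, hD⟩ := B.surjC d hd3
  exact ⟨s, σ, D, B, F, hv, hs, hσ, d, hD, hd1, hd2⟩

namespace Ctx

theorem pair (K : Ctx X z φ C S v s σ D) : Pair X z v (S v) := K.fam.pair v K.hv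

/-- The subgroup `A`. -/
def A (K : Ctx X z φ C S v s σ D) : Subgroup H := K.base.Im σ

theorem sigma_sq (K : Ctx X z φ C S v s σ D) : σ * σ ∈ X :=
  K.base.mem_iff.1 (by rw [map_mul, K.hσ]; exact Prod.ext K.hax.1 (one_mul 1))

theorem A_le (K : Ctx X z φ C S v s σ D) : K.A ≤ X := K.base.Im_le σ

theorem z_mem (K : Ctx X z φ C S v s σ D) : z ∈ K.A := K.base.z_mem_Im σ

theorem norm_of_comm (K : Ctx X z φ C S v s σ D) {h a : H} (h1 : (φ h).1 = 1 ∨ (φ h).1 = s)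
    (ha : a ∈ K.A) : h * a * h⁻¹ ∈ K.A := by
  refine K.base.conj_mem_Im_of_comm ?_ ha
  rw [K.hσ]
  refine Prod.ext ?_ (by simp)
  show (φ h).1 * s = s * (φ h).1
  rcases h1 with e | e <;> rw [e]
  simp

theorem norm_lift (K : Ctx X z φ C S v s σ D) {q : P6} {l a : H} (hl : IsLift φ q l) (ha : a ∈ K.A) :
    l * a * l⁻¹ ∈ K.A :=
  K.norm_of_comm (Or.inl (by rw [hl.1])) ha

theorem norm_of_fix (K : Ctx X z φ C S v s σ D) {h a : H} (hh : π (h * v * h⁻¹) = π v)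
    (ha : a ∈ K.A) : h * a * h⁻¹ ∈ K.A :=
  K.norm_of_comm (K.fam.fst_of_fix K.base K.hv K.hax hh) ha

theorem norm_of_commute (K : Ctx X z φ C S v s σ D) {h a : H} (hh : Commute h v)
    (ha : a ∈ K.A) : h * a * h⁻¹ ∈ K.A :=
  K.norm_of_fix (by rw [conj_eq_iff_comm.2 hh.eq]) ha

theorem not_triv (K : Ctx X z φ C S v s σ D) : ¬ K.base.Trivial K.A :=
  K.fam.not_trivial K.base K.hv K.hax K.hσ

theorem card_A (K : Ctx X z φ C S v s σ D) : Nat.card K.A = 32 := by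
  have h1 := K.base.card_Im_mul_Fx σ
  have h2 : Nat.card ↥(K.base.Im σ) ≤ Nat.card ↥(Fx z X σ) :=
    Subgroup.card_le_of_le (K.base.Im_le_Fx_of_sq K.sigma_sq)
  have h3 : Nat.card K.A ≤ 32 := by
    show Nat.card ↥(K.base.Im σ) ≤ 32
    by_contra h
    have := Nat.mul_le_mul (Nat.lt_of_not_le h) (le_trans (Nat.lt_of_not_le h) h2)
    omega
  by_contra h
  exact K.not_triv (K.base.trivial_of K.z_mem K.A_le h3 (fun q l hl y hy => K.norm_lift hl hy)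
    (Or.inl (lt_of_le_of_ne h3 h)))

theorem Fx_eq (K : Ctx X z φ C S v s σ D) : Fx z X σ = K.A := by
  refine (Subgroup.eq_of_le_of_card_ge (K.base.Im_le_Fx_of_sq K.sigma_sq) ?_).symm
  have h1 := K.base.card_Im_mul_Fx σ
  have h2 : Nat.card ↥(K.base.Im σ) = 32 := K.card_A
  rw [h2] at h1 ⊢
  omega

theorem fix_sigma (K : Ctx X z φ C S v s σ D) {a : H} (ha : a ∈ K.A) :
    π (σ * a * σ⁻¹) = π a := (mem_Fx.1 (K.Fx_eq.symm ▸ ha)).2

theorem v_mem (K : Ctx X z φ C S v s σ D) : v ∈ K.A :=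
  K.Fx_eq ▸ mem_Fx.2 ⟨K.pair.vX, K.fam.sigma_fix K.base K.hv K.hax K.hσ⟩

theorem comm_A (K : Ctx X z φ C S v s σ D) {a b : H} (ha : a ∈ K.A) (hb : b ∈ K.A) : Commute a b :=
  K.base.commute_of_Im_Fx ha (K.Fx_eq.symm ▸ hb)

theorem trans (K : Ctx X z φ C S v s σ D) {a : H} (ha : a ∈ K.A) (ha1 : π a ≠ 1) :
    ∃ q h, IsLift φ q h ∧ h * v * h⁻¹ = a := by
  obtain ⟨q, h, hl, e⟩ := (K.base.orbit_of K.z_mem K.A_le K.card_A
    (fun q l hl y hy => K.norm_lift hl hy) K.not_triv K.v_mem K.pair.pv).1 a ha ha1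
  obtain ⟨h', e', hh'⟩ := K.base.exists_fix (K.A_le ha) ha1 e
  exact ⟨q, h', ⟨e'.trans hl.1, hl.2⟩, hh'⟩

theorem stab (K : Ctx X z φ C S v s σ D) : ∃ W : Subgroup A6, Nat.card W = 24 ∧
    ∀ (q : A6) h, φ h = (1, (q : P6)) → (q ∈ W ↔ π (h * v * h⁻¹) = π v) :=
  (K.base.orbit_of K.z_mem K.A_le K.card_A (fun q l hl y hy => K.norm_lift hl hy) K.not_triv
    K.v_mem K.pair.pv).2

theorem sq_A (K : Ctx X z φ C S v s σ D) {a : H} (ha : a ∈ K.A) : a * a = 1 := by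
  by_cases ha1 : π a = 1
  · rcases eq_or_of_mem_zpowers K.base.good.x_sq (pz_eq_one_iff.1 ha1) with rfl | rfl
    exacts [one_mul 1, K.base.good.x_sq]
  obtain ⟨q, h, -, rfl⟩ := K.trans ha ha1
  calc h * v * h⁻¹ * (h * v * h⁻¹) = h * (v * v) * h⁻¹ := by group
    _ = 1 := by rw [K.pair.v_sq]; group

/-- Every member of the family is conjugate to `v`. -/
theorem conj_form (K : Ctx X z φ C S v s σ D) (hS : ∀ s : P3, ∃ h, φ h = (s, 1)) {w : H} (hw : C w) :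
    ∃ h, h * v * h⁻¹ = w := by
  obtain ⟨t, τ, D', K'⟩ := exists_ctx K.base K.fam hS hw
  obtain ⟨d, hd3, hd⟩ := conj_invol_even s t K.hax.1 K.hax.2.1 K'.hax.1 K'.hax.2.1
  obtain ⟨D1, hD1⟩ := K.base.surjC d hd3
  have hτ : φ (D1 * σ * D1⁻¹) = φ τ := by
    rw [map_mul, map_mul, map_inv, hD1, K.hσ, K'.hσ]; exact Prod.ext hd (by simp)
  have hwA : w ∈ K.base.Im (D1 * σ * D1⁻¹) := by
    rw [K.base.Im_congr hτ]; exact K'.v_mem
  have ha := K.base.conj_mem_Im (h := D1⁻¹) hwA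
  rw [show D1⁻¹ * (D1 * σ * D1⁻¹) * D1⁻¹⁻¹ = σ by group] at ha
  have ha1 : π (D1⁻¹ * w * D1⁻¹⁻¹) ≠ 1 := fun e => (K.fam.pair w hw).pv (by
    simp only [map_mul, map_inv, inv_inv] at e
    calc π w = π D1 * ((π D1)⁻¹ * π w * π D1) * (π D1)⁻¹ := by group
      _ = 1 := by rw [e]; group)
  obtain ⟨q, h, -, e⟩ := K.trans ha ha1
  refine ⟨D1 * h, ?_⟩
  calc D1 * h * v * (D1 * h)⁻¹ = D1 * (h * v * h⁻¹) * D1⁻¹ := by group
    _ = w := by rw [e]; group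

theorem inter (K : Ctx X z φ C S v s σ D) {a b : H} (ha : a ∈ K.A) (hb : b ∈ K.A)
    (h : π a = π (D * b * D⁻¹)) : π a = 1 := by
  by_contra ha1
  obtain ⟨d, hD, hd1, hd2⟩ := K.hD
  have hall : ∀ a' ∈ K.A, a' ∈ K.base.Im (D * σ * D⁻¹) := by
    intro a' ha'
    by_cases h' : π a' = 1
    · obtain rfl | rfl := eq_or_of_mem_zpowers K.base.good.x_sq (pz_eq_one_iff.1 h')
      exacts [one_mem _, K.base.z_mem_Im _]
    obtain ⟨q1, h1, hl1, rfl⟩ := K.trans ha ha1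
    obtain ⟨q2, h2, hl2, rfl⟩ := K.trans ha' h'
    have hl : IsLift φ (q2 * q1⁻¹) (h2 * h1⁻¹) :=
      ⟨by rw [map_mul, map_inv, hl1.1, hl2.1]; exact Prod.ext (by simp) rfl,
        by rw [map_mul, map_inv, hl1.2, hl2.2]; simp⟩
    have hc : φ (h2 * h1⁻¹ * D) = φ (D * (h2 * h1⁻¹)) := by
      rw [map_mul, map_mul φ D, hl.1, hD]; exact Prod.ext (by simp) (by simp)
    have e : π (h2 * v * h2⁻¹) = π (D * (h2 * h1⁻¹ * b * (h2 * h1⁻¹)⁻¹) * D⁻¹) := by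
      calc π (h2 * v * h2⁻¹) = π (h2 * h1⁻¹) * π (h1 * v * h1⁻¹) * (π (h2 * h1⁻¹))⁻¹ := by
            rw [← map_inv, ← map_mul, ← map_mul]; congr 1; group
        _ = π (h2 * h1⁻¹ * D * b * (h2 * h1⁻¹ * D)⁻¹) := by
            rw [h]; simp only [map_mul, map_inv]; group
        _ = π (D * (h2 * h1⁻¹) * b * (D * (h2 * h1⁻¹))⁻¹) := K.base.pz_conj_congr hc (K.A_le hb)
        _ = _ := by congr 1; group
    obtain ⟨x, hx, ex⟩ := K.base.mem_Im.1 (K.base.conj_mem_Im (h := D) (K.norm_lift hl hb))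
    exact K.base.mem_Im.2 ⟨x, hx, ex.trans e.symm⟩
  have hfix : π (D * σ * D⁻¹ * v * (D * σ * D⁻¹)⁻¹) = π v := by
    refine (mem_Fx.1 (K.base.Im_le_Fx_of_sq ?_ (hall v K.v_mem))).2
    rw [show D * σ * D⁻¹ * (D * σ * D⁻¹) = D * (σ * σ) * D⁻¹ by group]
    exact K.base.conj_mem D K.sigma_sq
  have hc : π (D * σ * D⁻¹ * σ * v * (D * σ * D⁻¹ * σ)⁻¹) = π v := by
    have e1 := K.fix_sigma K.v_mem
    simp only [map_mul, map_inv, mul_inv_rev, inv_inv] at hfix e1 ⊢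
    calc _ = π D * π σ * (π D)⁻¹ * (π σ * π v * (π σ)⁻¹) * (π D * ((π σ)⁻¹ * (π D)⁻¹)) := by group
      _ = π v := by rw [e1, hfix]
  rcases K.fam.fst_of_fix K.base K.hv K.hax hc with e | e <;>
    simp only [map_mul, map_inv, hD, K.hσ, Prod.fst_mul, Prod.fst_inv] at e
  exacts [hd1 e, hd2 e]

/-- The frame of `v`. -/
theorem toFrame (K : Ctx X z φ C S v s σ D) (hS : ∀ s : P3, ∃ h, φ h = (s, 1)) :
    AxisFrame X z φ C S v s K.A D where
  base := K.base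
  fam := K.fam
  hv := K.hv
  hax := K.hax
  hD := K.hD
  A_le := K.A_le
  z_mem := K.z_mem
  card_A := K.card_A
  v_mem := K.v_mem
  comm_A := K.comm_A
  norm := K.norm_of_comm
  trans := K.trans
  inter := K.inter
  conj_form := K.conj_form hS
  sig := fun t ht => ⟨K.base.Im_congr (ht.trans K.hσ.symm),
    (K.base.Fx_congr (ht.trans K.hσ.symm)).trans K.Fx_eq⟩

end Ctx

end Cfsg.Agent.Lib.LargeNine45
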