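import Cfsg.Agent.Lib.LargeNine45.Straight
import Cfsg.Agent.Lib.LargeNine45.Struct
import Cfsg.Agent.S3300

/-!
No simple group has an involution centraliser `2^{1+8}.(S₃ × A₆)` or `2^{1+8}.(S₃ × S₆)` (helper45).
-/

set_option autoImplicit false

namespace Cfsg.Agent.Lib.LargeNine45

open Equiv LargeExtra
open scoped commutatorElement

variable {G : Type*} [Group G] [Finite G] {Q : G → Subgroup G} {z : G}
  {φ : ↥(Subgroup.centralizer ({z} : Set G)) →* T}

theorem isExtraspecial_transport {E E' : Type*} [Group E] [Group E'] (e : E ≃* E') {p : ℕ}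
    (h : Cfsg.IsExtraspecial p E) : Cfsg.IsExtraspecial p E' := by
  obtain ⟨⟨hp, hfr, hcm⟩, hcard⟩ := h
  have hc : (Subgroup.center E).map e.toMonoidHom = Subgroup.center E' := by
    ext y
    obtain ⟨x, rfl⟩ := e.surjective y
    simp only [Subgroup.mem_map, MulEquiv.coe_toMonoidHom, Subgroup.mem_center_iff]
    constructor
    · rintro ⟨a, ha, hax⟩ w
      obtain ⟨v, rfl⟩ := e.surjective w
      rw [← hax, ← map_mul, ← map_mul, ha v]
    · exact fun hy => ⟨x, fun v => e.injective (by rw [map_mul, map_mul, hy (e v)]), rfl⟩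
  have hf : (frattini E).map e.toMonoidHom = frattini E' := by
    refine le_antisymm (Subgroup.map_le_iff_le_comap.2
      (frattini_le_comap_frattini_of_surjective (φ := e.toMonoidHom) e.surjective)) fun y hy => ?_
    exact ⟨e.symm y, frattini_le_comap_frattini_of_surjective (φ := e.symm.toMonoidHom)
      e.symm.surjective hy, e.apply_symm_apply y⟩
  refine ⟨⟨hp.of_equiv e, by rw [← hf, ← hc, hfr], ?_⟩, ?_⟩
  · rw [← hc, ← hcm, commutator_def, commutator_def, Subgroup.map_commutator,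
      Subgroup.map_top_of_surjective e.toMonoidHom e.surjective]
  · rw [← hc, Subgroup.card_map_of_injective e.injective, hcard]

/-- The hypotheses on `O₂(C(z))`, read inside `G`. -/
theorem extra_self_of_core (z : G)
    (hQ : Cfsg.IsExtraspecial 2 ↥(Cfsg.pCore 2 ↥(Subgroup.centralizer ({z} : Set G))))
    (hCQ : Subgroup.centralizer ((Cfsg.pCore 2 ↥(Subgroup.centralizer ({z} : Set G))) :
        Set ↥(Subgroup.centralizer ({z} : Set G))) ≤
      Cfsg.pCore 2 ↥(Subgroup.centralizer ({z} : Set G))) :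
    Cfsg.IsExtraspecial 2 ↥((Cfsg.pCore 2 ↥(Subgroup.centralizer ({z} : Set G))).map
      (Subgroup.centralizer ({z} : Set G)).subtype) ∧
    Subgroup.centralizer (((Cfsg.pCore 2 ↥(Subgroup.centralizer ({z} : Set G))).map
      (Subgroup.centralizer ({z} : Set G)).subtype : Subgroup G) : Set G) ≤
      (Cfsg.pCore 2 ↥(Subgroup.centralizer ({z} : Set G))).map
        (Subgroup.centralizer ({z} : Set G)).subtype := by
  refine ⟨isExtraspecial_transport (Subgroup.equivMapOfInjective _ _ (Subgroup.subtype_injective _)) hQ,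
    fun g hg => ?_⟩
  have hzQ : zC z ∈ Cfsg.pCore 2 ↥(Subgroup.centralizer ({z} : Set G)) :=
    hCQ (Subgroup.mem_centralizer_iff.2 fun a _ => (zC_central a).eq)
  have hgz : g * z = z * g := (Subgroup.mem_centralizer_iff.1 hg z ⟨_, hzQ, rfl⟩).symm
  exact ⟨⟨g, Subgroup.mem_centralizer_singleton_iff.2 hgz⟩, hCQ (Subgroup.mem_centralizer_iff.2
    fun a ha => Subtype.ext (Subgroup.mem_centralizer_iff.1 hg a ⟨a, ha, rfl⟩)), rfl⟩

/-- A frame at a conjugate of `z` is impossible. -/
theorem Glob.false_of_frame (M : Glob Q z φ) {v : ↥(Subgroup.centralizer ({z} : Set G))} {s : P3}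
    {A : Subgroup ↥(Subgroup.centralizer ({z} : Set G))} {D : ↥(Subgroup.centralizer ({z} : Set G))}
    (K : AxisFrame ((Q z).subgroupOf (Subgroup.centralizer ({z} : Set G))) (zC z) φ (Mem Q z) (Tr Q z)
      v s A D) : False := by
  have KG : GCtx Q z φ v s A D := ⟨M, K⟩
  obtain ⟨g, hg⟩ := exists_swap KG
  by_cases h : ∀ x ∈ KG.AG, ∀ a ∈ KG.AG, ⁅x, g * a * g⁻¹⁆ = 1 ∨ ⁅x, g * a * g⁻¹⁆ = z
  · exact KG.false_straight hg h
  · push Not at h
    obtain ⟨x, hx, a, ha, h1, h2⟩ := h
    exact KG.false_twisted hg hx ha h1 h2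

theorem conj_mem_setOf_coprime {G : Type*} [Group G] (g a : G) (ha : Nat.Coprime (orderOf a) 2) :
    Nat.Coprime (orderOf (g * a * g⁻¹)) 2 := by
  rwa [show g * a * g⁻¹ = (MulAut.conj g).toMonoidHom a from rfl,
    orderOf_injective _ (MulAut.conj g).injective]

/-- In a simple group of order divisible by `3`, `O²` is everything. -/
theorem pResidual_eq_top [IsSimpleGroup G] (h3 : 3 ∣ Nat.card G) : Cfsg.pResidual 2 G = ⊤ := by
  have hn : (Cfsg.pResidual 2 G).Normal := ⟨fun a ha g => by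
    induction ha using Subgroup.closure_induction with
    | mem x hx => exact Subgroup.subset_closure (conj_mem_setOf_coprime g x hx)
    | one => simp
    | mul x y _ _ hx hy =>
      rw [show g * (x * y) * g⁻¹ = g * x * g⁻¹ * (g * y * g⁻¹) by group]
      exact mul_mem hx hy
    | inv x _ hx =>
      rw [show g * x⁻¹ * g⁻¹ = (g * x * g⁻¹)⁻¹ by group]
      exact inv_mem hx⟩
  refine hn.eq_bot_or_eq_top.resolve_left fun h => ?_
  haveI : Fact (Nat.Prime 3) := ⟨by norm_num⟩
  obtain ⟨t, ht⟩ := exists_prime_orderOf_dvd_card' 3 h3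
  have : t ∈ Cfsg.pResidual 2 G := Subgroup.subset_closure
    (show Nat.Coprime (orderOf t) 2 by rw [ht]; norm_num)
  rw [h, Subgroup.mem_bot] at this
  rw [this, orderOf_one] at ht
  norm_num at ht

/-- If `sign` of the first component is onto, some conjugate of `z` other than `z` lies in `Q z`. -/
theorem Glob.exists_mem [IsSimpleGroup G] (M : Glob Q z φ) (hodd : ∃ c, Perm.sign (φ c).1 = -1) :
    ∃ v, Mem Q z v := by
  have h3 : 3 ∣ Nat.card G := by
    obtain ⟨p, hp3, hp1⟩ := three_exists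
    obtain ⟨c, hc⟩ := M.surjC p hp3
    haveI : Fact (Nat.Prime 3) := ⟨by norm_num⟩
    have h : orderOf ((p, 1) : T) = 3 :=
      orderOf_eq_prime (Prod.ext hp3 (one_pow 3)) fun e => hp1 (congrArg Prod.fst e)
    have h1 : 3 ∣ orderOf c := h ▸ hc ▸ orderOf_map_dvd φ c
    exact h1.trans ((orderOf_dvd_natCard c).trans (Subgroup.card_subgroup_dvd_card (Subgroup.centralizer ({z} : Set G))))
  let χ : ↥(Subgroup.centralizer ({z} : Set G)) →* ℤˣ := (Perm.sign.comp (MonoidHom.fst P3 P6)).comp φ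
  have hsurj : Function.Surjective χ := by
    intro u
    rcases Int.units_eq_one_or u with rfl | rfl
    · exact ⟨1, map_one χ⟩
    · exact hodd.imp fun c hc => hc
  obtain ⟨g, hgQ, hgz⟩ := Cfsg.Agent.S3300.result (pResidual_eq_top h3) z M.ord (Q z) (M.core z) M.extra
    M.self 4 (by norm_num) (by rw [M.card]; norm_num) (χ.ker.map (Subgroup.centralizer ({z} : Set G)).subtype)
    (Subgroup.map_subtype_le _) (fun h hh => by
      ext x
      constructor
      · rintro ⟨_, ⟨a, ha, rfl⟩, rfl⟩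
        exact ⟨⟨h, hh⟩ * a * ⟨h, hh⟩⁻¹, (MonoidHom.normal_ker χ).conj_mem a ha _, rfl⟩
      · rintro ⟨a, ha, rfl⟩
        refine ⟨_, ⟨(⟨h, hh⟩ : ↥(Subgroup.centralizer ({z} : Set G)))⁻¹ * a * ⟨h, hh⟩, ?_, rfl⟩, ?_⟩
        · have := (MonoidHom.normal_ker χ).conj_mem a ha (⟨h, hh⟩ : ↥(Subgroup.centralizer ({z} : Set G)))⁻¹
          simpa using this
        · simp only [MulEquiv.coe_toMonoidHom, MulAut.conj_apply, Subgroup.coe_subtype,
            Subgroup.coe_mul, Subgroup.coe_inv]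
          group)
    (by
      rw [Subgroup.relIndex, Subgroup.subgroupOf, Subgroup.comap_map_eq_self_of_injective
        (Subgroup.subtype_injective _), Subgroup.index_ker, MonoidHom.range_eq_top.2 hsurj,
        Subgroup.card_top]
      simp [Nat.card_eq_fintype_card])
  exact ⟨⟨g * z * g⁻¹, Subgroup.mem_centralizer_singleton_iff.2 (M.goodz.le_cent _ hgQ)⟩,
    ⟨g, rfl⟩, hgQ, hgz⟩

/-- The main theorem for `S₃ × A₆` and `S₃ × S₆`. -/
theorem Glob.not_simple (M : Glob Q z φ) (hS : ∀ s : P3, ∃ h, φ h = (s, 1)) : ¬ IsSimpleGroup G := by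
  intro _
  obtain ⟨c, hc⟩ := hS (swap 0 1)
  obtain ⟨v, hv⟩ := M.exists_mem ⟨c, by rw [hc]; simp⟩
  obtain ⟨s, σ, D, K⟩ := exists_ctx M.base M.fam hS hv
  exact M.false_of_frame (K.toFrame hS)

end Cfsg.Agent.Lib.LargeNine45
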