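import Cfsg.Agent.Lib.LargeNine45.Axis

/-!
Consequences of a subgroup `A` of order `2⁵` on which the lifts of `1 × A₆` act transitively:
`|A ∩ S| = 2⁴` and `|X ∩ S| = 2⁵` (helper45).
-/

set_option autoImplicit false

namespace Cfsg.Agent.Lib.LargeNine45

open Equiv LargeExtra
open scoped commutatorElement

variable {H : Type*} [Group H] [Finite H] {X : Subgroup H} {z : H} {φ : H →* T}
variable [(Subgroup.zpowers z).Normal]

local notation "π" => pz z

variable {C : H → Prop} {S : H → Subgroup H} {v : H} {s : P3} {A : Subgroup H} {D : H}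

/-- A conjugate `v`, its axis `s`, its subgroup `A`, and an element `D` moving the axis. -/
structure AxisFrame (X : Subgroup H) (z : H) (φ : H →* T) (C : H → Prop) (S : H → Subgroup H) (v : H)
    (s : P3) (A : Subgroup H) (D : H) [(Subgroup.zpowers z).Normal] : Prop where
  base : Base X z φ
  fam : Fam X z C S
  hv : C v
  hax : IsAxis φ S v s
  hD : ∃ d, φ D = (d, 1) ∧ d * s * d⁻¹ * s ≠ 1 ∧ d * s * d⁻¹ * s ≠ s
  A_le : A ≤ X
  z_mem : z ∈ A
  card_A : Nat.card A = 32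
  v_mem : v ∈ A
  comm_A : ∀ {a b : H}, a ∈ A → b ∈ A → Commute a b
  norm : ∀ {h a : H}, (φ h).1 = 1 ∨ (φ h).1 = s → a ∈ A → h * a * h⁻¹ ∈ A
  trans : ∀ {a : H}, a ∈ A → pz z a ≠ 1 → ∃ q h, IsLift φ q h ∧ h * v * h⁻¹ = a
  inter : ∀ {a b : H}, a ∈ A → b ∈ A → pz z a = pz z (D * b * D⁻¹) → pz z a = 1
  conj_form : ∀ {w : H}, C w → ∃ h, h * v * h⁻¹ = w
  sig : ∀ t, φ t = (s, 1) → base.Im t = A ∧ Fx z X t = A

/-- `e` has order `3` and centralises `v`. -/
def IsE (X : Subgroup H) (v e : H) : Prop := e ^ 3 = 1 ∧ Commute e v ∧ e ∉ X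

namespace AxisFrame

theorem pair (K : AxisFrame X z φ C S v s A D) : Pair X z v (S v) := K.fam.pair v K.hv

theorem norm_lift (K : AxisFrame X z φ C S v s A D) {q : P6} {l a : H} (hl : IsLift φ q l) (ha : a ∈ A) :
    l * a * l⁻¹ ∈ A :=
  K.norm (Or.inl (by rw [hl.1])) ha

theorem norm_of_fix (K : AxisFrame X z φ C S v s A D) {h a : H} (hh : π (h * v * h⁻¹) = π v)
    (ha : a ∈ A) : h * a * h⁻¹ ∈ A :=
  K.norm (K.fam.fst_of_fix K.base K.hv K.hax hh) ha

theorem norm_of_commute (K : AxisFrame X z φ C S v s A D) {h a : H} (hh : Commute h v)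
    (ha : a ∈ A) : h * a * h⁻¹ ∈ A :=
  K.norm_of_fix (by rw [conj_eq_iff_comm.2 hh.eq]) ha

theorem not_triv (K : AxisFrame X z φ C S v s A D) : ¬ K.base.Trivial A := by
  intro htr
  have hsub : ((A.map π : Subgroup (H ⧸ Subgroup.zpowers z)) : Set (H ⧸ Subgroup.zpowers z)) ⊆
      {1, π v} := by
    rintro _ ⟨a, ha, rfl⟩
    by_cases ha1 : π a = 1
    · exact Or.inl ha1
    · obtain ⟨q, h, hl, rfl⟩ := K.trans ha ha1
      exact Or.inr (htr q h hl v K.v_mem)
  have h1 := (Set.ncard_le_ncard hsub (Set.toFinite _)).trans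
    ((Set.ncard_insert_le _ _).trans (by rw [Set.ncard_singleton]))
  rw [← Nat.card_coe_set_eq] at h1
  have h2 := K.base.card_map K.z_mem
  rw [K.card_A] at h2
  have h3 : Nat.card ↥(A.map π) ≤ 1 + 1 := h1
  omega

theorem stab (K : AxisFrame X z φ C S v s A D) : ∃ W : Subgroup A6, Nat.card W = 24 ∧
    ∀ (q : A6) h, φ h = (1, (q : P6)) → (q ∈ W ↔ π (h * v * h⁻¹) = π v) :=
  (K.base.orbit_of K.z_mem K.A_le K.card_A (fun q l hl y hy => K.norm_lift hl hy) K.not_triv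
    K.v_mem K.pair.pv).2

theorem cover (K : AxisFrame X z φ C S v s A D) {x : H} (hx : x ∈ X) :
    ∃ a ∈ A, ∃ b ∈ A, π x = π a * π (D * b * D⁻¹) := by
  have hA : Nat.card (A.map π) = 16 := by
    have := K.base.card_map K.z_mem; rw [K.card_A] at this; omega
  have hX : Nat.card (X.map π) = 256 := by
    have := K.base.card_map K.base.good.x_mem; rw [K.base.card] at this; omega
  have hmem : ∀ w : ↥(A.map π), π D * w.1 * (π D)⁻¹ ∈ X.map π := by
    rintro ⟨_, b, hb, rfl⟩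
    exact ⟨D * b * D⁻¹, K.base.conj_mem D (K.A_le hb), by simp only [map_mul, map_inv]⟩
  let f : ↥(A.map π) × ↥(A.map π) → ↥(X.map π) := fun p =>
    ⟨p.1.1 * (π D * p.2.1 * (π D)⁻¹), mul_mem (Subgroup.map_mono K.A_le p.1.2) (hmem p.2)⟩
  have hinj : Function.Injective f := by
    rintro ⟨⟨_, a, ha, rfl⟩, ⟨_, b, hb, rfl⟩⟩ ⟨⟨_, a', ha', rfl⟩, ⟨_, b', hb', rfl⟩⟩ e
    have e' : π a * (π D * π b * (π D)⁻¹) = π a' * (π D * π b' * (π D)⁻¹) := congrArg Subtype.val e
    have hk : π (a'⁻¹ * a) = π (D * (b' * b⁻¹) * D⁻¹) := by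
      simp only [map_mul, map_inv]
      calc (π a')⁻¹ * π a = (π a')⁻¹ * (π a * (π D * π b * (π D)⁻¹)) * (π D * (π b)⁻¹ * (π D)⁻¹) := by
            group
        _ = _ := by rw [e']; group
    have h1 := K.inter (mul_mem (inv_mem ha') ha) (mul_mem hb' (inv_mem hb)) hk
    rw [map_mul, map_inv, inv_mul_eq_one] at h1
    rw [← h1] at e'
    have h2 := mul_left_cancel (mul_right_cancel (mul_left_cancel e'))
    exact Prod.ext (Subtype.ext h1.symm) (Subtype.ext h2)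
  obtain ⟨⟨⟨_, a, ha, rfl⟩, ⟨_, b, hb, rfl⟩⟩, e⟩ := (hinj.bijective_of_nat_card_le (by
    rw [Nat.card_prod, hA, hX])).2 ⟨π x, Subgroup.mem_map_of_mem _ hx⟩
  exact ⟨a, ha, b, hb, by rw [map_mul, map_mul, map_inv]; exact (congrArg Subtype.val e).symm⟩

/-- An element commuting with `D` modulo `X` and fixing `A` lies in `X`. -/
theorem phi_eq_one (K : AxisFrame X z φ C S v s A D) {h : H} (hc : Commute (φ h) (φ D))
    (hA : ∀ a ∈ A, π (h * a * h⁻¹) = π a) : φ h = 1 := by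
  refine K.base.mem_iff.2 (K.base.mem_X_of_fix fun x hx => ?_)
  obtain ⟨a, ha, b, hb, e⟩ := K.cover hx
  have h1 := hA a ha
  have h2 : π (h * (D * b * D⁻¹) * h⁻¹) = π (D * b * D⁻¹) := by
    calc π (h * (D * b * D⁻¹) * h⁻¹) = π (h * D * b * (h * D)⁻¹) := by congr 1; group
      _ = π (D * h * b * (D * h)⁻¹) :=
          K.base.pz_conj_congr (by rw [map_mul, map_mul, hc.eq]) (K.A_le hb)
      _ = π D * π (h * b * h⁻¹) * (π D)⁻¹ := by simp only [map_mul, map_inv]; group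
      _ = _ := by rw [hA b hb]; simp only [map_mul, map_inv]
  simp only [map_mul, map_inv] at h1 h2 e ⊢
  calc π h * π x * (π h)⁻¹
      = π h * π a * (π h)⁻¹ * (π h * (π D * π b * (π D)⁻¹) * (π h)⁻¹) := by rw [e]; group
    _ = π x := by rw [h1, h2, e]

theorem faithful (K : AxisFrame X z φ C S v s A D) {q : P6} {l : H} (hl : IsLift φ q l)
    (hA : ∀ a ∈ A, π (l * a * l⁻¹) = π a) : q = 1 := by
  obtain ⟨α, hα⟩ := K.base.exists_aut A K.A_le fun q l hl y hy => K.norm_lift hl hy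
  haveI := simple_A6
  by_contra hq
  have h1 : (⟨q, Equiv.Perm.mem_alternatingGroup.2 hl.2⟩ : A6) ∈ α.ker := by
    refine MonoidHom.mem_ker.2 (MulEquiv.ext ?_)
    rintro ⟨_, a, ha, rfl⟩
    exact Subtype.ext ((hα _ l a ha hl.1).trans (hA a ha))
  have hker : α.ker = ⊤ := (MonoidHom.normal_ker α).eq_bot_or_eq_top.resolve_left fun e => by
    rw [e, Subgroup.mem_bot] at h1
    exact hq (congrArg Subtype.val h1)
  refine K.not_triv fun p h hh a ha => ?_
  have hp : (⟨p, Equiv.Perm.mem_alternatingGroup.2 hh.2⟩ : A6) ∈ α.ker := hker ▸ Subgroup.mem_top _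
  rw [← hα ⟨p, Equiv.Perm.mem_alternatingGroup.2 hh.2⟩ h a ha hh.1, MonoidHom.mem_ker.1 hp]
  rfl

/-- The elements fixing `A` modulo `⟨z⟩`. -/
theorem img_of_fix_A (K : AxisFrame X z φ C S v s A D) {h : H} (hA : ∀ a ∈ A, π (h * a * h⁻¹) = π a) :
    φ h = 1 ∨ φ h = (s, 1) := by
  have hs := K.fam.fst_of_fix K.base K.hv K.hax (hA v K.v_mem)
  suffices key : ∀ g, (∀ a ∈ A, π (g * a * g⁻¹) = π a) → (φ g).2 = 1 by
    rcases hs with e | e
    · exact Or.inl (Prod.ext e (key h hA))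
    · exact Or.inr (Prod.ext e (key h hA))
  intro g hgA
  have hcomm : ∀ q : P6, Perm.sign q = 1 → (φ g).2 * q = q * (φ g).2 := by
    intro q hq
    obtain ⟨l, hl⟩ := K.base.surjA q hq
    have hlift : IsLift φ q l := ⟨hl, hq⟩
    have hlift' : IsLift φ q⁻¹ l⁻¹ := ⟨by rw [map_inv, hl]; exact Prod.ext (by simp) rfl, by simp [hq]⟩
    have hg' : IsLift φ (q * (φ g).2 * q⁻¹ * (φ g).2⁻¹) (l * g * l⁻¹ * g⁻¹) :=
      ⟨by simp only [map_mul, map_inv, hl]; exact Prod.ext (by simp) (by simp),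
        by simp only [map_mul, map_inv, hq, inv_one, one_mul, mul_one, mul_inv_cancel]⟩
    have hinv : ∀ a ∈ A, π (g⁻¹ * a * g) = π a := fun a ha => by
      have h := hgA a ha
      simp only [map_mul, map_inv] at h ⊢
      calc (π g)⁻¹ * π a * π g = (π g)⁻¹ * (π g * π a * (π g)⁻¹) * π g := by rw [h]
        _ = π a := by group
    have h1 := K.faithful hg' fun a ha => by
      have h2 := hinv a ha
      have h3 := hgA _ (K.norm_lift hlift' ha)
      simp only [map_mul, map_inv, inv_inv, mul_inv_rev] at h2 h3 ⊢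
      calc _ = π l * (π g * ((π l)⁻¹ * ((π g)⁻¹ * π a * π g) * π l) * (π g)⁻¹) * (π l)⁻¹ := by group
        _ = π a := by rw [h2, h3]; group
    exact (mul_inv_eq_iff_eq_mul.1 (mul_inv_eq_one.1 h1)).symm
  exact centralizer_alternating _ (hcomm _ (by decide)) (hcomm _ (by decide)) (hcomm _ (by decide))

theorem exists_isE (K : AxisFrame X z φ C S v s A D) : ∃ e, IsE X v e := by
  obtain ⟨W, hW, hiff⟩ := K.stab
  haveI : Fact (Nat.Prime 3) := ⟨by norm_num⟩
  obtain ⟨d, hd⟩ := exists_prime_orderOf_dvd_card' (G := W) 3 (by rw [hW]; norm_num)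
  obtain ⟨h0, hh0⟩ := K.base.surjA ((d : A6) : P6) (Equiv.Perm.mem_alternatingGroup.1 (d : A6).2)
  obtain ⟨h, hφ, hhv⟩ := K.base.exists_fix K.pair.vX K.pair.pv ((hiff d h0 hh0).1 d.2)
  rw [hh0] at hφ
  have hd3 : ((d : A6) : P6) ^ 3 = 1 := by
    have := congrArg (fun w : W => ((w : A6) : P6)) (hd ▸ pow_orderOf_eq_one d : d ^ 3 = 1)
    simpa using this
  have hd1 : ((d : A6) : P6) ≠ 1 := fun e => by
    have : d = 1 := Subtype.ext (Subtype.ext e)
    rw [this, orderOf_one] at hd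
    norm_num at hd
  have h3 : h ^ 3 ∈ X := K.base.mem_iff.1 (by rw [map_pow, hφ, Prod.pow_mk, hd3, one_pow]; rfl)
  refine ⟨h ^ 512, ?_, Commute.pow_left (conj_eq_iff_comm.1 hhv) _, fun hX => hd1 ?_⟩
  · have : (⟨h ^ 3, h3⟩ : X) ^ Nat.card X = 1 := pow_card_eq_one'
    rw [K.base.card] at this
    have := congrArg Subtype.val this
    simp only [SubmonoidClass.coe_pow, Subgroup.coe_one] at this
    rw [← pow_mul, mul_comm, pow_mul, this]
  · have e : ((d : A6) : P6) ^ 512 = 1 := by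
      have := congrArg Prod.snd (K.base.mem_iff.2 hX)
      rwa [map_pow, hφ] at this
    calc ((d : A6) : P6) = (((d : A6) : P6) ^ 3) ^ 171 := by rw [← pow_mul]; rw [show 3 * 171 = 512 + 1 by norm_num, pow_succ, e, one_mul]
      _ = 1 := by rw [hd3, one_pow]

theorem isE_img (K : AxisFrame X z φ C S v s A D) {e : H} (he : IsE X v e) :
    ∃ d, IsLift φ d e ∧ d ^ 3 = 1 ∧ d ≠ 1 := by
  have h3 : φ e ^ 3 = 1 := by rw [← map_pow, he.1, map_one]
  have h1 : (φ e).1 = 1 := by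
    rcases K.fam.fst_of_fix K.base K.hv K.hax (by rw [conj_eq_iff_comm.2 he.2.1.eq]) with e1 | e1
    · exact e1
    · have := congrArg Prod.fst h3
      rw [Prod.pow_fst, e1, pow_succ, pow_two, K.hax.1, one_mul] at this
      exact absurd this K.hax.2.1
  have h2 : (φ e).2 ^ 3 = 1 := by rw [← Prod.pow_snd, h3]; rfl
  exact ⟨(φ e).2, ⟨Prod.ext h1 rfl, sign_of_pow_three h2⟩, h2,
    fun hh => he.2.2 (K.base.mem_iff.1 (Prod.ext h1 hh))⟩

theorem e_norm (K : AxisFrame X z φ C S v s A D) {e l : H} (he : IsE X v e) (hl : l ∈ A ⊓ S v) :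
    e * l * e⁻¹ ∈ A ⊓ S v :=
  ⟨K.norm_of_commute he.2.1 hl.1, K.pair.norm e he.2.1 l hl.2⟩

theorem comm_mem_L (K : AxisFrame X z φ C S v s A D) {f a : H} (hf : f ∈ S v) (ha : a ∈ A) :
    ⁅f, a⁆ ∈ A ⊓ S v := by
  refine Subgroup.mem_inf.2 ⟨mul_mem (K.norm_of_commute (K.pair.cv f hf) ha) (inv_mem ha), ?_⟩
  rw [commutatorElement_def, show f * a * f⁻¹ * a⁻¹ = f * (a * f⁻¹ * a⁻¹) by group]
  exact mul_mem hf (K.pair.norm a (K.comm_A ha K.v_mem) _ (inv_mem hf))

/-- Two elements of `S` agreeing on `A` and centralising `D` modulo `X` agree modulo `X`. -/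
theorem phi_eq_of_agree (K : AxisFrame X z φ C S v s A D) {h1 h2 : H} (hc1 : Commute (φ h1) (φ D))
    (hc2 : Commute (φ h2) (φ D)) (hA : ∀ a ∈ A, π (h1 * a * h1⁻¹) = π (h2 * a * h2⁻¹)) :
    φ h1 = φ h2 := by
  have h := K.phi_eq_one (h := h1⁻¹ * h2) (by rw [map_mul, map_inv]; exact hc1.inv_left.mul_left hc2)
    fun a ha => by
      have := hA a ha
      simp only [map_mul, map_inv, mul_inv_rev, inv_inv] at this ⊢
      calc (π h1)⁻¹ * π h2 * π a * ((π h2)⁻¹ * π h1) = (π h1)⁻¹ * (π h2 * π a * (π h2)⁻¹) * π h1 := by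
            group
        _ = π a := by rw [← this]; group
  rwa [map_mul, map_inv, inv_mul_eq_one] at h

theorem commute_lift_D (K : AxisFrame X z φ C S v s A D) {q : P6} {l : H} (hl : IsLift φ q l) :
    Commute (φ l) (φ D) := by
  obtain ⟨d, hD, -, -⟩ := K.hD
  rw [hl.1, hD]
  exact Prod.ext (by simp) (by simp)

theorem pz_comm_D (K : AxisFrame X z φ C S v s A D) {q : P6} {f b : H} (hl : IsLift φ q f) (hb : b ∈ A) :
    π ⁅f, D * b * D⁻¹⁆ = π D * π ⁅f, b⁆ * (π D)⁻¹ := by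
  have e : π (f * D * b * (f * D)⁻¹) = π (D * f * b * (D * f)⁻¹) :=
    K.base.pz_conj_congr (by rw [map_mul, map_mul, (K.commute_lift_D hl).eq]) (K.A_le hb)
  calc π ⁅f, D * b * D⁻¹⁆ = π (f * D * b * (f * D)⁻¹) * (π (D * b * D⁻¹))⁻¹ := by
        rw [← map_inv, ← map_mul]; congr 1; simp only [commutatorElement_def]; group
    _ = _ := by rw [e]; simp only [commutatorElement_def, map_mul, map_inv]; group

theorem pz_comm_split (K : AxisFrame X z φ C S v s A D) {f y a b : H} (ha : a ∈ A) (hb : b ∈ A)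
    (hy : y ∈ X) (e : π y = π a * π (D * b * D⁻¹)) :
    π ⁅f, y⁆ = π ⁅f, a⁆ * π ⁅f, D * b * D⁻¹⁆ := by
  have hb' := K.base.conj_mem D (K.A_le hb)
  rw [← map_mul] at e
  calc π ⁅f, y⁆ = π ⁅f, a * (D * b * D⁻¹)⁆ := by
        simp only [map_commutatorElement, e]
    _ = _ := map_mul (K.base.delta f) ⟨a, K.A_le ha⟩ ⟨D * b * D⁻¹, hb'⟩

theorem moves_L (K : AxisFrame X z φ C S v s A D) {e : H} (he : IsE X v e) :
    ∃ l ∈ A ⊓ S v, π (e * l * e⁻¹) ≠ π l := by
  by_contra hfix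
  push Not at hfix
  obtain ⟨f, hf, q, hlf, hq1, hq2⟩ := K.fam.exists_even K.base K.hv K.hax
  obtain ⟨d, hle, hd3, hd1⟩ := K.isE_img he
  have hne : d * q ≠ q * d := fun h => hd1 (eq_one_of_comm_involution q hlf.2 hq2 hq1 d h hd3)
  have hxf : ∀ x ∈ A, π (f * ⁅e, x⁆ * f⁻¹) = π ⁅e, x⁆ := by
    intro x hx
    have hx' : ⁅e, x⁆ ∈ A := mul_mem (K.norm_of_commute he.2.1 hx) (inv_mem hx)
    refine (mem_Fx.1 (K.base.mem_Fx_of_commute (K.A_le hx') fun y hy => ?_)).2
    obtain ⟨a, ha, b, hb, ey⟩ := K.cover hy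
    have e1 := K.pz_comm_split (f := f) ha hb hy ey
    rw [← map_mul] at e1
    refine ((K.base.commute_congr e1.symm).1 ?_).symm
    refine Commute.mul_left (K.comm_A (K.comm_mem_L hf ha).1 hx') (Commute.symm ?_)
    refine K.base.commute_of_Im_Fx (f := e) (K.base.mem_Im.2 ⟨x, K.A_le hx, rfl⟩) (mem_Fx.2 ⟨?_, ?_⟩)
    · exact K.base.comm_mem f (K.base.conj_mem D (K.A_le hb))
    · have hl := hfix _ (K.comm_mem_L hf hb)
      have e2 : π (e * D * ⁅f, b⁆ * (e * D)⁻¹) = π (D * e * ⁅f, b⁆ * (D * e)⁻¹) :=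
        K.base.pz_conj_congr (by rw [map_mul, map_mul, (K.commute_lift_D hle).eq])
          (K.base.comm_mem f (K.A_le hb))
      have e3 := K.pz_comm_D hlf hb
      calc π (e * ⁅f, D * b * D⁻¹⁆ * e⁻¹) = π e * π ⁅f, D * b * D⁻¹⁆ * (π e)⁻¹ := by
            simp only [map_mul, map_inv]
        _ = π (e * D * ⁅f, b⁆ * (e * D)⁻¹) := by rw [e3]; simp only [map_mul, map_inv]; group
        _ = π D * π (e * ⁅f, b⁆ * e⁻¹) * (π D)⁻¹ := by
            rw [e2]; simp only [map_mul, map_inv]; group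
        _ = π ⁅f, D * b * D⁻¹⁆ := by rw [hl, e3]
  have hagree : φ (f * e) = φ (e * f) := by
    refine K.phi_eq_of_agree ?_ ?_ fun x hx => ?_
    · rw [map_mul]; exact (K.commute_lift_D hlf).mul_left (K.commute_lift_D hle)
    · rw [map_mul]; exact (K.commute_lift_D hle).mul_left (K.commute_lift_D hlf)
    have h1 := hxf x hx
    have h2 := hfix _ (K.comm_mem_L hf hx)
    have h3 : Commute (π ⁅f, x⁆) (π ⁅e, x⁆) :=
      K.base.pz_comm (K.base.comm_mem f (K.A_le hx)) (K.base.comm_mem e (K.A_le hx))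
    simp only [map_mul, map_inv, mul_inv_rev, map_commutatorElement, commutatorElement_def] at h1 h2 h3 ⊢
    calc π f * π e * π x * ((π e)⁻¹ * (π f)⁻¹)
        = π f * (π e * π x * (π e)⁻¹ * (π x)⁻¹) * (π f)⁻¹ * (π f * π x * (π f)⁻¹ * (π x)⁻¹) * π x := by
          group
      _ = π e * π x * (π e)⁻¹ * (π x)⁻¹ * (π f * π x * (π f)⁻¹ * (π x)⁻¹) * π x := by rw [h1]
      _ = π f * π x * (π f)⁻¹ * (π x)⁻¹ * (π e * π x * (π e)⁻¹ * (π x)⁻¹) * π x := by rw [h3.eq]
      _ = π e * (π f * π x * (π f)⁻¹ * (π x)⁻¹) * (π e)⁻¹ * (π e * π x * (π e)⁻¹ * (π x)⁻¹) * π x := by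
          rw [h2]
      _ = _ := by group
  rw [map_mul, map_mul, hlf.1, hle.1] at hagree
  exact hne (congrArg Prod.snd hagree).symm

theorem L_card_ge (K : AxisFrame X z φ C S v s A D) : 16 ≤ Nat.card ↥(A ⊓ S v) := by
  obtain ⟨e, he⟩ := K.exists_isE
  obtain ⟨l, hl, hne⟩ := K.moves_L he
  set u := A ⊓ S v with hu
  have h1 := K.e_norm he hl
  have h2 := K.e_norm he h1
  have hev : π e * π v * (π e)⁻¹ = π v := by
    rw [← map_inv, ← map_mul, ← map_mul, conj_eq_iff_comm.2 he.2.1.eq]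
  have hinj : ∀ a b : H, π e * π a * (π e)⁻¹ = π e * π b * (π e)⁻¹ → π a = π b := fun a b h =>
    mul_left_cancel (mul_right_cancel h)
  have h3 : π (e * (e * (e * l * e⁻¹) * e⁻¹) * e⁻¹) = π l := by
    rw [show e * (e * (e * l * e⁻¹) * e⁻¹) * e⁻¹ = e ^ 3 * l * (e ^ 3)⁻¹ by
      simp only [pow_succ, pow_zero, one_mul]; group, he.1]
    simp
  simp only [map_mul, map_inv] at hne h3
  have hl1 : π l ≠ 1 := fun h => hne (by rw [h]; group)
  have hlv : π l ≠ π v := fun h => hne (by rw [h, hev])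
  let f : Fin 5 → ↥(u.map π) := ![⟨1, one_mem _⟩,
    ⟨π v, Subgroup.mem_map_of_mem _ ⟨K.v_mem, K.pair.vS⟩⟩,
    ⟨π l, Subgroup.mem_map_of_mem _ hl⟩, ⟨π (e * l * e⁻¹), Subgroup.mem_map_of_mem _ h1⟩,
    ⟨π (e * (e * l * e⁻¹) * e⁻¹), Subgroup.mem_map_of_mem _ h2⟩]
  have c1 : π (e * l * e⁻¹) ≠ 1 := fun h => hl1 (by
    simp only [map_mul, map_inv] at h; exact mul_eq_left.1 (mul_inv_eq_one.1 h))
  have c2 : π (e * l * e⁻¹) ≠ π v := fun h => hlv (hinj _ _ (by
    simp only [map_mul, map_inv] at h; rw [h, hev]))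
  have c3 : π (e * (e * l * e⁻¹) * e⁻¹) ≠ 1 := fun h => c1 (by
    simp only [map_mul, map_inv] at h ⊢; exact mul_eq_left.1 (mul_inv_eq_one.1 h))
  have c4 : π (e * (e * l * e⁻¹) * e⁻¹) ≠ π v := fun h => c2 (hinj _ _ (by
    simp only [map_mul, map_inv] at h ⊢; rw [h, hev]))
  have c5 : π (e * (e * l * e⁻¹) * e⁻¹) ≠ π l := fun h => hne (by
    simp only [map_mul, map_inv] at h
    exact (congrArg (fun w => π e * w * (π e)⁻¹) h).symm.trans h3)
  have c6 : π (e * (e * l * e⁻¹) * e⁻¹) ≠ π (e * l * e⁻¹) := fun h => hne (by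
    simp only [map_mul, map_inv] at h; exact mul_left_cancel (mul_right_cancel h))
  have c7 : π (e * l * e⁻¹) ≠ π l := fun h => hne (by simpa only [map_mul, map_inv] using h)
  have hf : Function.Injective f := by
    intro a b h
    have h' := congrArg Subtype.val h
    fin_cases a <;> fin_cases b
    all_goals first
      | rfl
      | exact absurd h' K.pair.pv | exact absurd h'.symm K.pair.pv
      | exact absurd h' hl1 | exact absurd h'.symm hl1
      | exact absurd h' hlv | exact absurd h'.symm hlv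
      | exact absurd h' c1 | exact absurd h'.symm c1
      | exact absurd h' c2 | exact absurd h'.symm c2
      | exact absurd h' c3 | exact absurd h'.symm c3
      | exact absurd h' c4 | exact absurd h'.symm c4
      | exact absurd h' c5 | exact absurd h'.symm c5
      | exact absurd h' c6 | exact absurd h'.symm c6
      | exact absurd h' c7 | exact absurd h'.symm c7
  have h5 := Nat.card_le_card_of_injective f hf
  rw [Nat.card_fin] at h5
  have hm := K.base.card_map (Y := u) ⟨K.z_mem, K.pair.zS⟩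
  obtain ⟨k, -, hk⟩ := (Nat.dvd_prime_pow Nat.prime_two).1
    (show Nat.card ↥u ∣ 2 ^ 9 from K.base.card_dvd (inf_le_left.trans K.A_le))
  have h10 : 10 ≤ 2 ^ k := by omega
  rw [hk]
  have : 4 ≤ k := by
    by_contra hlt
    interval_cases k <;> omega
  exact Nat.pow_le_pow_right (n := 2) (by norm_num) this

theorem not_I_le (K : AxisFrame X z φ C S v s A D) : ¬ X ⊓ S v ≤ A := by
  intro hIA
  obtain ⟨e, he⟩ := K.exists_isE
  obtain ⟨f, hf, q, hlf, hq1, hq2⟩ := K.fam.exists_even K.base K.hv K.hax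
  obtain ⟨d, hle, hd3, hd1⟩ := K.isE_img he
  obtain ⟨dd, hDd, -, -⟩ := K.hD
  have hne : d * q ≠ q * d := fun h => hd1 (eq_one_of_comm_involution q hlf.2 hq2 hq1 d h hd3)
  have hv' : π (D * v * D⁻¹) ≠ 1 := (K.fam.pair _ (K.fam.conj D v K.hv)).pv
  -- the action of an even involution of `S` on `A`
  have key : ∀ f ∈ S v, ∀ p, IsLift φ p f → p ≠ 1 → ∀ a ∈ A,
      (π ⁅f, a⁆ = 1 ∨ π ⁅f, a⁆ = π v) ∧ (π ⁅f, a⁆ = 1 ↔ Commute a (D * v * D⁻¹)) := by
    intro f hf p hlf hp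
    have hfixD : ∀ b ∈ A, Commute (D * b * D⁻¹) v → π ⁅f, D * b * D⁻¹⁆ = 1 := by
      intro b hb hbv
      have hm : ⁅f, D * b * D⁻¹⁆ ∈ X ⊓ S v := by
        refine ⟨K.base.comm_mem f (K.base.conj_mem D (K.A_le hb)), ?_⟩
        rw [commutatorElement_def, show f * (D * b * D⁻¹) * f⁻¹ * (D * b * D⁻¹)⁻¹ =
          f * (D * b * D⁻¹ * f⁻¹ * (D * b * D⁻¹)⁻¹) by group]
        exact mul_mem hf (K.pair.norm _ hbv _ (inv_mem hf))
      refine K.inter (hIA hm) (K.comm_mem_L hf hb).1 ?_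
      rw [K.pz_comm_D hlf hb]; simp only [map_mul, map_inv]
    have hval : ∀ a ∈ A, π ⁅f, a⁆ = 1 ∨ π ⁅f, a⁆ = π v := by
      intro a ha
      have hy := K.A_le (K.comm_mem_L hf ha).1
      have hcent : ∀ x ∈ X, Commute x v → Commute ⁅f, a⁆ x := by
        intro x hx hxv
        obtain ⟨a1, ha1, b, hb, ex⟩ := K.cover hx
        rw [← map_mul] at ex
        have h1 : Commute (a1 * (D * b * D⁻¹)) v := (K.base.commute_congr ex).1 hxv
        have h2 : Commute (D * b * D⁻¹) v := by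
          have := (K.comm_A ha1 K.v_mem).inv_left.mul_left h1
          rwa [inv_mul_cancel_left] at this
        have h3 : D * b * D⁻¹ ∈ Fx z X f := mem_Fx.2 ⟨K.base.conj_mem D (K.A_le hb), by
          have := hfixD b hb h2
          rwa [commutatorElement_def, map_mul, map_inv, mul_inv_eq_one] at this⟩
        refine ((K.base.commute_congr ex).2 (Commute.mul_left ?_ ?_)).symm
        · exact K.comm_A ha1 (K.comm_mem_L hf ha).1
        · exact (K.base.commute_of_Im_Fx (K.base.mem_Im.2 ⟨a, K.A_le ha, rfl⟩) h3).symm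
      obtain ⟨x0, hx0, hx0v⟩ : ∃ x0 ∈ X, ¬ Commute x0 v := by
        by_contra hall
        push Not at hall
        exact (K.base.good.centre v K.pair.vX fun x hx => (hall x hx).eq.symm).elim K.pair.v_ne
          K.pair.v_ne_z
      have hyv : ∀ x ∈ X, ¬ Commute x v → (Commute ⁅f, a⁆ x ↔ Commute ⁅f, a⁆ x0) := by
        intro x hx hxv
        have h1 : Commute (x * x0⁻¹) v :=
          K.base.commute_div hx hx0 K.pair.vX (iff_of_false hxv hx0v)
        have h2 := hcent _ (mul_mem hx (inv_mem hx0)) h1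
        constructor <;> intro h
        · have := h2.inv_right.mul_right h
          rwa [mul_inv_rev, inv_inv, inv_mul_cancel_right] at this
        · have := h2.mul_right h
          rwa [inv_mul_cancel_right] at this
      by_cases h0 : Commute ⁅f, a⁆ x0
      · left
        have : ∀ x ∈ X, ⁅f, a⁆ * x = x * ⁅f, a⁆ := fun x hx => by
          by_cases hxv : Commute x v
          · exact (hcent x hx hxv).eq
          · exact ((hyv x hx hxv).2 h0).eq
        rcases K.base.good.centre _ hy this with e | e <;> rw [e]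
        exacts [map_one _, pz_z]
      · right
        have : ∀ x ∈ X, ⁅f, a⁆ * v⁻¹ * x = x * (⁅f, a⁆ * v⁻¹) := fun x hx => by
          refine (K.base.commute_div hy K.pair.vX hx ?_).eq
          by_cases hxv : Commute x v
          · exact iff_of_true (hcent x hx hxv) hxv.symm
          · exact iff_of_false (fun h => h0 ((hyv x hx hxv).1 h)) fun h => hxv h.symm
        rcases K.base.good.centre _ (mul_mem hy (inv_mem K.pair.vX)) this with e | e
        · rw [mul_inv_eq_one.1 e]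
        · rw [mul_inv_eq_iff_eq_mul.1 e, map_mul, pz_z, one_mul]
    obtain ⟨a0, ha0, h0⟩ : ∃ a0 ∈ A, π ⁅f, a0⁆ ≠ 1 := by
      by_contra hall
      push Not at hall
      have := K.phi_eq_one (K.commute_lift_D hlf) fun a ha => by
        have := hall a ha
        rwa [commutatorElement_def, map_mul, map_inv, mul_inv_eq_one] at this
      rw [hlf.1] at this
      exact hp (congrArg Prod.snd this)
    intro a ha
    refine ⟨hval a ha, ⟨fun h => ?_, fun h => ?_⟩⟩
    · have hFx : a ∈ Fx z X f := mem_Fx.2 ⟨K.A_le ha, by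
        rwa [commutatorElement_def, map_mul, map_inv, mul_inv_eq_one] at h⟩
      refine (K.base.commute_of_Im_Fx (K.base.mem_Im.2 ⟨D * a0 * D⁻¹,
        K.base.conj_mem D (K.A_le ha0), ?_⟩) hFx).symm
      rw [K.pz_comm_D hlf ha0, (hval a0 ha0).resolve_left h0]
      simp only [map_mul, map_inv]
    · have hFx : a ∈ Fx z X f := K.base.mem_Fx_of_commute (K.A_le ha) fun y hy => by
        obtain ⟨a1, ha1, b, hb, ey⟩ := K.cover hy
        have e1 := K.pz_comm_split (f := f) ha1 hb hy ey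
        rw [← map_mul] at e1
        refine ((K.base.commute_congr e1.symm).1 ?_).symm
        refine Commute.mul_left (K.comm_A (K.comm_mem_L hf ha1).1 ha) ?_
        have e3 := K.pz_comm_D hlf hb
        rcases hval b hb with e2 | e2
        · have : π ⁅f, D * b * D⁻¹⁆ = π 1 := by rw [e3, e2, map_one]; group
          exact (K.base.commute_congr this).2 (Commute.one_left a)
        · have : π ⁅f, D * b * D⁻¹⁆ = π (D * v * D⁻¹) := by
            rw [e3, e2]; simp only [map_mul, map_inv]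
          exact (K.base.commute_congr this).2 h.symm
      rw [commutatorElement_def, map_mul, map_inv, (mem_Fx.1 hFx).2, mul_inv_cancel]
  have hf2 : e * f * e⁻¹ ∈ S v := K.pair.norm e he.2.1 f hf
  have hlf2 : IsLift φ (d * q * d⁻¹) (e * f * e⁻¹) :=
    ⟨by rw [map_mul, map_mul, map_inv, hle.1, hlf.1]; exact Prod.ext (by simp) rfl,
      by simp [hle.2, hlf.2]⟩
  have hq' : d * q * d⁻¹ ≠ 1 := fun h => hq1 (mul_eq_left.1 (mul_inv_eq_one.1 h))
  have hagree := K.phi_eq_of_agree (K.commute_lift_D hlf2) (K.commute_lift_D hlf) fun a ha => by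
    obtain ⟨h1, h1'⟩ := key _ hf2 _ hlf2 hq' a ha
    obtain ⟨h2, h2'⟩ := key f hf q hlf hq1 a ha
    have heq : π ⁅e * f * e⁻¹, a⁆ = π ⁅f, a⁆ := by
      rcases h1 with h | h
      · rw [h, h2'.2 (h1'.1 h)]
      · rcases h2 with h3 | h3
        · rw [h3, h1'.2 (h2'.1 h3)]
        · rw [h, h3]
    simp only [commutatorElement_def, map_mul π _ a⁻¹] at heq
    exact mul_right_cancel heq
  rw [hlf2.1, hlf.1] at hagree
  exact hne (mul_inv_eq_iff_eq_mul.1 (congrArg Prod.snd hagree))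

theorem card_I (K : AxisFrame X z φ C S v s A D) : Nat.card ↥(X ⊓ S v) = 32 := by
  have h16 := K.L_card_ge
  have hle : A ⊓ S v ≤ X ⊓ S v := inf_le_inf_right _ K.A_le
  have hne : A ⊓ S v ≠ X ⊓ S v := fun h => K.not_I_le (h ▸ inf_le_left)
  have h1 : Nat.card ↥(A ⊓ S v) < Nat.card ↥(X ⊓ S v) := by
    by_contra h
    exact hne (Subgroup.eq_of_le_of_card_ge hle (Nat.le_of_not_lt h))
  have h2 := K.pair.card_I_le K.base
  obtain ⟨k, hk9, hk⟩ := (Nat.dvd_prime_pow Nat.prime_two).1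
    (show Nat.card ↥(X ⊓ S v) ∣ 2 ^ 9 from K.base.card_dvd inf_le_left)
  rw [hk] at h1 h2 ⊢
  interval_cases k <;> omega

theorem card_L (K : AxisFrame X z φ C S v s A D) : Nat.card ↥(A ⊓ S v) = 16 := by
  have h16 := K.L_card_ge
  have hd : Nat.card ↥(A ⊓ S v) ∣ 2 ^ 5 := by
    rw [show (2 : ℕ) ^ 5 = Nat.card A by rw [K.card_A]; rfl]
    exact Subgroup.card_dvd_of_le inf_le_left
  have hne : Nat.card ↥(A ⊓ S v) ≠ 32 := fun h => by
    have hAS : A ⊓ S v = A := Subgroup.eq_of_le_of_card_ge inf_le_left (by rw [h, K.card_A])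
    have hAI : A ≤ X ⊓ S v := le_inf K.A_le (inf_eq_left.1 hAS)
    exact K.not_I_le (Subgroup.eq_of_le_of_card_ge hAI (by rw [K.card_I, K.card_A])).ge
  obtain ⟨k, hk5, hk⟩ := (Nat.dvd_prime_pow Nat.prime_two).1 hd
  rw [hk] at h16 hne ⊢
  interval_cases k <;> omega

theorem comm_mem_of_I (K : AxisFrame X z φ C S v s A D) {e i : H} (he : IsE X v e) (hi : i ∈ X ⊓ S v) :
    ⁅e, i⁆ ∈ A ⊓ S v := by
  have hei : e * i * e⁻¹ ∈ X ⊓ S v := ⟨K.base.conj_mem e hi.1, K.pair.norm e he.2.1 i hi.2⟩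
  by_cases hiL : i ∈ A ⊓ S v
  · exact mul_mem (K.e_norm he hiL) (inv_mem hiL)
  have hle : A ⊓ S v ≤ X ⊓ S v := inf_le_inf_right _ K.A_le
  have heiL : e * i * e⁻¹ ∉ A ⊓ S v := fun h => hiL (by
    have := K.e_norm he (K.e_norm he h)
    rwa [show e * (e * (e * i * e⁻¹) * e⁻¹) * e⁻¹ = e ^ 3 * i * (e ^ 3)⁻¹ by
      simp only [pow_succ, pow_zero, one_mul]; group, he.1, inv_one, one_mul, mul_one] at this)
  let N := (A ⊓ S v).subgroupOf (X ⊓ S v)
  have hindex : N.index = 2 := by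
    have := N.card_mul_index
    rw [Nat.card_congr (Subgroup.subgroupOfEquivOfLe hle).toEquiv, K.card_L, K.card_I] at this
    omega
  have := (Subgroup.mul_mem_iff_of_index_two hindex (a := ⟨_, hei⟩) (b := (⟨i, hi⟩ : ↥(X ⊓ S v))⁻¹)).2
    (iff_of_false heiL fun h => hiL (by simpa [N, Subgroup.mem_subgroupOf] using inv_mem h))
  exact this

/-- The fixed points of `e` on `A ∩ S` modulo `⟨z⟩`. -/
theorem fixed (K : AxisFrame X z φ C S v s A D) {e l : H} (he : IsE X v e) (hl : l ∈ A ⊓ S v)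
    (hfix : π (e * l * e⁻¹) = π l) : π l = 1 ∨ π l = π v := by
  by_contra hcon
  push Not at hcon
  obtain ⟨l0, hl0, hne⟩ := K.moves_L he
  let N := (Fx z X e).subgroupOf (A ⊓ S v)
  let P := A ⊓ S v ⊓ Fx z X e
  have hPN : Nat.card P = Nat.card N := Nat.card_congr
    ⟨fun a => ⟨⟨a, a.2.1⟩, a.2.2⟩, fun a => ⟨(a : ↥(A ⊓ S v)), (a : ↥(A ⊓ S v)).2, a.2⟩,
      fun _ => rfl, fun _ => rfl⟩
  have hvP : v ∈ P := ⟨⟨K.v_mem, K.pair.vS⟩,
    mem_Fx.2 ⟨K.pair.vX, by rw [conj_eq_iff_comm.2 he.2.1.eq]⟩⟩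
  have hzP : z ∈ P := ⟨⟨K.z_mem, K.pair.zS⟩, K.base.z_mem_Fx e⟩
  have hlP : l ∈ P := ⟨hl, mem_Fx.2 ⟨K.A_le hl.1, hfix⟩⟩
  let g : Fin 3 → ↥(P.map π) := ![⟨1, one_mem _⟩, ⟨π v, Subgroup.mem_map_of_mem _ hvP⟩,
    ⟨π l, Subgroup.mem_map_of_mem _ hlP⟩]
  have hg : Function.Injective g := by
    intro a b h
    have h' := congrArg Subtype.val h
    fin_cases a <;> fin_cases b
    all_goals first
      | rfl
      | exact absurd h' K.pair.pv | exact absurd h'.symm K.pair.pv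
      | exact absurd h' hcon.1 | exact absurd h'.symm hcon.1
      | exact absurd h' hcon.2 | exact absurd h'.symm hcon.2
  have h3 := Nat.card_le_card_of_injective g hg
  rw [Nat.card_fin] at h3
  have h6 := K.base.card_map (Y := P) hzP
  have hl0N : (⟨l0, hl0⟩ : ↥(A ⊓ S v)) ∉ N := fun h => hne (mem_Fx.1 h).2
  have hmul := N.card_mul_index
  rw [K.card_L, ← hPN] at hmul
  have hi1 : N.index ≠ 1 := fun h => hl0N (by rw [Subgroup.index_eq_one.1 h]; exact Subgroup.mem_top _)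
  have hindex : N.index = 2 := by
    have hd : N.index ∣ 2 ^ 4 := ⟨Nat.card P, by rw [mul_comm]; exact hmul.symm⟩
    obtain ⟨k, hk4, hk⟩ := (Nat.dvd_prime_pow Nat.prime_two).1 hd
    rw [hk] at hmul hi1 ⊢
    interval_cases k <;> omega
  have hl1N : (⟨e * l0 * e⁻¹, K.e_norm he hl0⟩ : ↥(A ⊓ S v)) ∉ N := fun h => hne (by
    have h1 := (mem_Fx.1 h).2
    simp only [map_mul, map_inv] at h1 ⊢
    exact mul_left_cancel (mul_right_cancel h1))
  have hq := (Subgroup.mul_mem_iff_of_index_two hindex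
    (a := ⟨e * l0 * e⁻¹, K.e_norm he hl0⟩) (b := (⟨l0, hl0⟩ : ↥(A ⊓ S v))⁻¹)).2
    (iff_of_false hl1N fun h => hl0N (by simpa using inv_mem h))
  exact hne (K.base.three (by rw [he.1]; exact one_mem X) (K.A_le hl0.1) (mem_Fx.1 hq).2)

/-- `A ∩ S = ⟨z, v⟩ [X ∩ S, e]`. -/
theorem gen (K : AxisFrame X z φ C S v s A D) {e : H} (he : IsE X v e) (W : Subgroup H) (hz : z ∈ W)
    (hvW : v ∈ W) (hW : ∀ i ∈ X ⊓ S v, ⁅e, i⁆ ∈ W) : A ⊓ S v ≤ W := by
  have hc3 : e ^ 3 ∈ X := by rw [he.1]; exact one_mem X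
  obtain ⟨l0, hl0, hne⟩ := K.moves_L he
  have hl0' : l0 ∈ X ⊓ S v := ⟨K.A_le hl0.1, hl0.2⟩
  have hl1 : e * l0 * e⁻¹ ∈ X ⊓ S v := ⟨K.A_le (K.e_norm he hl0).1, (K.e_norm he hl0).2⟩
  let U := W ⊓ (A ⊓ S v)
  have hu1 : ⁅e, l0⁆ ∈ U := ⟨hW _ hl0', K.comm_mem_of_I he hl0'⟩
  have hu2 : ⁅e, e * l0 * e⁻¹⁆ ∈ U := ⟨hW _ hl1, K.comm_mem_of_I he hl1⟩
  have hvU : v ∈ U := ⟨hvW, K.v_mem, K.pair.vS⟩
  have hev : π e * π v * (π e)⁻¹ = π v := by
    rw [← map_inv, ← map_mul, ← map_mul, conj_eq_iff_comm.2 he.2.1.eq]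
  have hconj : π ⁅e, e * l0 * e⁻¹⁆ = π e * π ⁅e, l0⁆ * (π e)⁻¹ := by
    rw [← map_inv, ← map_mul, ← map_mul]; congr 1; simp only [commutatorElement_def]; group
  have hu1ne : π ⁅e, l0⁆ ≠ 1 := fun h => hne (by
    rwa [commutatorElement_def, map_mul, map_inv, mul_inv_eq_one] at h)
  have hu1v : π ⁅e, l0⁆ ≠ π v := fun h => hne (K.base.three hc3 hl0'.1 (by
    simp only [map_mul, map_inv]; rw [h, hev]))
  have hu1fix : π e * π ⁅e, l0⁆ * (π e)⁻¹ ≠ π ⁅e, l0⁆ := fun h => hne (K.base.three hc3 hl0'.1 (by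
    simp only [map_mul, map_inv]; exact h))
  have hvv : π v * π v = 1 := K.base.pz_sq K.pair.vX
  let g : Fin 5 → ↥(U.map π) := ![⟨1, one_mem _⟩, ⟨π v, Subgroup.mem_map_of_mem _ hvU⟩,
    ⟨π ⁅e, l0⁆, Subgroup.mem_map_of_mem _ hu1⟩,
    ⟨π v * π ⁅e, l0⁆, mul_mem (Subgroup.mem_map_of_mem _ hvU) (Subgroup.mem_map_of_mem _ hu1)⟩,
    ⟨π ⁅e, e * l0 * e⁻¹⁆, Subgroup.mem_map_of_mem _ hu2⟩]
  have a1 : π v * π ⁅e, l0⁆ ≠ 1 := fun h => hu1v (mul_left_cancel (h.trans hvv.symm))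
  have a2 : π v * π ⁅e, l0⁆ ≠ π v := fun h => hu1ne (mul_eq_left.1 h)
  have a3 : π v * π ⁅e, l0⁆ ≠ π ⁅e, l0⁆ := fun h => K.pair.pv (mul_eq_right.1 h)
  have b1 : π ⁅e, e * l0 * e⁻¹⁆ ≠ 1 := fun h => hu1ne (by
    rw [hconj] at h; exact mul_eq_left.1 (mul_inv_eq_one.1 h))
  have b2 : π ⁅e, e * l0 * e⁻¹⁆ ≠ π v := fun h => hu1v (by
    rw [hconj, ← hev] at h; exact mul_left_cancel (mul_right_cancel h))
  have b3 : π ⁅e, e * l0 * e⁻¹⁆ ≠ π ⁅e, l0⁆ := fun h => hu1fix (hconj ▸ h)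
  have b4 : π ⁅e, e * l0 * e⁻¹⁆ ≠ π v * π ⁅e, l0⁆ := fun h => by
    rw [hconj] at h
    set w := π ⁅e, l0⁆ with hw
    have h1 : π e * (π e * w * (π e)⁻¹) * (π e)⁻¹ = w := by
      calc π e * (π e * w * (π e)⁻¹) * (π e)⁻¹ = π e * (π v * w) * (π e)⁻¹ := by rw [h]
        _ = (π e * π v * (π e)⁻¹) * (π e * w * (π e)⁻¹) := by group
        _ = w := by rw [hev, h, ← mul_assoc, hvv, one_mul]
    have h3 : π e * (π e * (π e * w * (π e)⁻¹) * (π e)⁻¹) * (π e)⁻¹ = w := by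
      calc _ = π e ^ 3 * w * (π e ^ 3)⁻¹ := by simp only [pow_succ, pow_zero, one_mul]; group
        _ = w := by rw [← map_pow, he.1, map_one]; group
    rw [h1] at h3
    exact hu1fix h3
  have hg : Function.Injective g := by
    intro a b h
    have h' := congrArg Subtype.val h
    fin_cases a <;> fin_cases b
    all_goals first
      | rfl
      | exact absurd h' K.pair.pv | exact absurd h'.symm K.pair.pv
      | exact absurd h' hu1ne | exact absurd h'.symm hu1ne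
      | exact absurd h' hu1v | exact absurd h'.symm hu1v
      | exact absurd h' a1 | exact absurd h'.symm a1
      | exact absurd h' a2 | exact absurd h'.symm a2
      | exact absurd h' a3 | exact absurd h'.symm a3
      | exact absurd h' b1 | exact absurd h'.symm b1
      | exact absurd h' b2 | exact absurd h'.symm b2
      | exact absurd h' b3 | exact absurd h'.symm b3
      | exact absurd h' b4 | exact absurd h'.symm b4
  have h5 := Nat.card_le_card_of_injective g hg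
  rw [Nat.card_fin] at h5
  have hm := K.base.card_map (Y := U) ⟨hz, K.z_mem, K.pair.zS⟩
  obtain ⟨k, hk4, hk⟩ := (Nat.dvd_prime_pow Nat.prime_two).1
    (show Nat.card U ∣ 2 ^ 4 by
      rw [show (2 : ℕ) ^ 4 = Nat.card ↥(A ⊓ S v) by rw [K.card_L]; rfl]
      exact Subgroup.card_dvd_of_le inf_le_right)
  have h4 : k = 4 := by
    rw [hk] at hm
    interval_cases k <;> omega
  have hU : U = A ⊓ S v := Subgroup.eq_of_le_of_card_ge inf_le_right (by rw [hk, h4, K.card_L]; rfl)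
  exact hU ▸ inf_le_left

end AxisFrame

end Cfsg.Agent.Lib.LargeNine45
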