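import Cfsg.Agent.Lib.LargeNine45.Frame
import Cfsg.Agent.Lib.LargeExtra.Setting

/-!
The family of conjugates of `z` in `O₂(C(z))` inside a finite group (helper45).
-/

set_option autoImplicit false

namespace Cfsg.Agent.Lib.LargeNine45

open Equiv LargeExtra
open scoped commutatorElement

/-- The global hypotheses. -/
structure Glob {G : Type*} [Group G] (Q : G → Subgroup G) (z : G)
    (φ : ↥(Subgroup.centralizer ({z} : Set G)) →* T) : Prop where
  core : IsCoreMap Q
  ord : orderOf z = 2
  extra : Cfsg.IsExtraspecial 2 ↥(Q z)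
  self : Subgroup.centralizer ((Q z : Subgroup G) : Set G) ≤ Q z
  card : Nat.card (Q z) = 512
  ker : φ.ker = (Q z).subgroupOf (Subgroup.centralizer ({z} : Set G))
  surjA : ∀ q : P6, Perm.sign q = 1 → ∃ h, φ h = (1, q)
  surjC : ∀ p : P3, p ^ 3 = 1 → ∃ h, φ h = (p, 1)

variable {G : Type*} [Group G] [Finite G] {Q : G → Subgroup G} {z : G}
  {φ : ↥(Subgroup.centralizer ({z} : Set G)) →* T}

/-- `z` as an element of its centraliser. -/
def zC (z : G) : ↥(Subgroup.centralizer ({z} : Set G)) :=
  ⟨z, Subgroup.mem_centralizer_singleton_iff.2 rfl⟩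

theorem zC_central (h : ↥(Subgroup.centralizer ({z} : Set G))) : Commute h (zC z) :=
  Subtype.ext (Subgroup.mem_centralizer_singleton_iff.1 h.2)

instance zC_normal : (Subgroup.zpowers (zC z)).Normal :=
  ⟨fun n hn g => by
    obtain ⟨i, rfl⟩ := Subgroup.mem_zpowers_iff.1 hn
    rw [((zC_central g).zpow_right i).eq, mul_inv_cancel_right]
    exact zpow_mem (Subgroup.mem_zpowers _) i⟩

/-- The conjugates of `z` in `Q z` other than `z`. -/
def Mem (Q : G → Subgroup G) (z : G) (v : ↥(Subgroup.centralizer ({z} : Set G))) : Prop :=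
  (∃ g : G, g * z * g⁻¹ = v) ∧ (v : G) ∈ Q z ∧ (v : G) ≠ z

/-- The trace of `Q v` on the centraliser of `z`. -/
def Tr (Q : G → Subgroup G) (z : G) (v : ↥(Subgroup.centralizer ({z} : Set G))) :
    Subgroup ↥(Subgroup.centralizer ({z} : Set G)) :=
  (Q v).subgroupOf (Subgroup.centralizer ({z} : Set G))

namespace Glob

theorem goodz (M : Glob Q z φ) : Good (Q z) z := by
  simpa using M.core.good_conj M.ord M.extra M.self 1

theorem good (M : Glob Q z φ) (g : G) : Good (Q (g * z * g⁻¹)) (g * z * g⁻¹) :=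
  M.core.good_conj M.ord M.extra M.self g

theorem card_conj (M : Glob Q z φ) (g : G) : Nat.card (Q (g * z * g⁻¹)) = 512 := by
  rw [← M.card]
  refine Nat.card_congr
    ⟨fun a => ⟨g⁻¹ * a * g, by simpa [mul_assoc] using M.core.conj_mem g⁻¹ a.2⟩,
      fun a => ⟨g * a * g⁻¹, M.core.conj_mem g a.2⟩, fun a => Subtype.ext ?_, fun a => Subtype.ext ?_⟩
  · show g * (g⁻¹ * (a : G) * g) * g⁻¹ = a
    group
  · show g⁻¹ * (g * (a : G) * g⁻¹) * g = a
    group

theorem base (M : Glob Q z φ) :
    Base ((Q z).subgroupOf (Subgroup.centralizer ({z} : Set G))) (zC z) φ where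
  good :=
    { x_mem := M.goodz.x_mem
      x_sq := Subtype.ext M.goodz.x_sq
      x_ne := fun e => M.goodz.x_ne (congrArg Subtype.val e)
      le_cent := fun q _ => (zC_central q).eq
      comm := fun a ha b hb => (M.goodz.comm a ha b hb).imp (fun e => Subtype.ext e) fun e => Subtype.ext e
      centre := fun a ha hall => by
        refine (M.goodz.centre a ha fun b hb => ?_).imp (fun e => Subtype.ext e) fun e => Subtype.ext e
        exact congrArg Subtype.val
          (hall ⟨b, Subgroup.mem_centralizer_singleton_iff.2 (M.goodz.le_cent b hb)⟩ hb)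
      nonab := by
        obtain ⟨a, ha, b, hb, hne⟩ := M.goodz.nonab
        exact ⟨⟨a, Subgroup.mem_centralizer_singleton_iff.2 (M.goodz.le_cent a ha)⟩, ha,
          ⟨b, Subgroup.mem_centralizer_singleton_iff.2 (M.goodz.le_cent b hb)⟩, hb,
          fun e => hne (congrArg Subtype.val e)⟩
      norm := fun g _ q hq => M.goodz.norm g (Subgroup.mem_centralizer_singleton_iff.1 g.2) q hq
      cent := fun g hg => M.goodz.cent g fun q hq => congrArg Subtype.val
        (hg ⟨q, Subgroup.mem_centralizer_singleton_iff.2 (M.goodz.le_cent q hq)⟩ hq) }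
  zc := zC_central
  card := by
    have hle : Q z ≤ Subgroup.centralizer ({z} : Set G) := fun q hq =>
      Subgroup.mem_centralizer_singleton_iff.2 (M.goodz.le_cent q hq)
    rw [Nat.card_congr (Subgroup.subgroupOfEquivOfLe hle).toEquiv, M.card]
  ker := M.ker
  surjA := M.surjA
  surjC := M.surjC

theorem mem_Q_symm (M : Glob Q z φ) {g : G} (h : g * z * g⁻¹ ∈ Q z) : z ∈ Q (g * z * g⁻¹) :=
  M.core.orth_symm (M.good g) M.goodz h

theorem fam (M : Glob Q z φ) :
    Fam ((Q z).subgroupOf (Subgroup.centralizer ({z} : Set G))) (zC z) (Mem Q z) (Tr Q z) where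
  pair := by
    rintro v ⟨⟨g, hg⟩, hvQ, hvz⟩
    have hG : Good (Q (v : G)) (v : G) := hg ▸ M.good g
    have hzQ : z ∈ Q (v : G) := M.core.orth_symm hG M.goodz hvQ
    have hc512 : Nat.card (Q (v : G)) = 512 := hg ▸ M.card_conj g
    refine { vX := hvQ, v_sq := Subtype.ext hG.x_sq, pv := ?_, vS := hG.x_mem, zS := hzQ, cv := ?_,
             comm := ?_, sq := ?_, norm := ?_, card := ?_, dual := ?_ }
    · intro e
      rcases eq_or_of_mem_zpowers (Subtype.ext M.goodz.x_sq : zC z * zC z = 1) (pz_eq_one_iff.1 e)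
        with h | h
      · exact hG.x_ne (congrArg Subtype.val h)
      · exact hvz (congrArg Subtype.val h)
    · exact fun a ha => Subtype.ext (hG.le_cent a ha)
    · exact fun a ha b hb => (hG.comm a ha b hb).imp (fun e => Subtype.ext e) fun e => Subtype.ext e
    · exact fun a ha => (hG.sq_cases ha).imp (fun e => Subtype.ext e) fun e => Subtype.ext e
    · exact fun h hh a ha => hG.norm h (congrArg Subtype.val hh.eq) a ha
    · let W := extend hG (Subgroup.zpowers (v : G)) (Subgroup.zpowers_le.2 hG.x_mem)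
        (Subgroup.mem_zpowers _) z hzQ
      have hWle := extend_le hG (Subgroup.zpowers (v : G)) (Subgroup.zpowers_le.2 hG.x_mem)
        (Subgroup.mem_zpowers _) z hzQ
      have hvW : (v : G) ∈ W := Or.inl (Subgroup.mem_zpowers _)
      have hW : Nat.card W = 4 := by
        rw [card_extend hG _ _ _ z hzQ, Nat.card_zpowers,
          orderOf_eq_prime (p := 2) (by rw [pow_two, hG.x_sq]) hG.x_ne]
        exact fun hh => (eq_or_of_mem_zpowers hG.x_sq hh).elim M.goodz.x_ne fun e => hvz e.symm
      have hset : centIn (Q (v : G)) W =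
          ((Q (v : G) ⊓ Subgroup.centralizer ({z} : Set G) : Subgroup G) : Set G) := by
        ext q
        refine ⟨fun hq => ⟨hq.1, Subgroup.mem_centralizer_singleton_iff.2
          (hq.2 z (self_mem_extend hG _ _ _ z hzQ))⟩, fun hq => ⟨hq.1, ?_⟩⟩
        have hqz : Commute q z := Subgroup.mem_centralizer_singleton_iff.1 hq.2
        have hqv : ∀ a ∈ Subgroup.zpowers (v : G), Commute q a := fun a ha => by
          obtain ⟨i, rfl⟩ := Subgroup.mem_zpowers_iff.1 ha
          exact (show Commute q (v : G) from hG.le_cent q hq.1).zpow_right i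
        rintro a (ha | ha)
        · exact hqv a ha
        · have := hqz.mul_right (hqv _ ha)
          rwa [mul_inv_cancel_left] at this
      have h1 := mul_centIn_le hG W hWle hvW
      have h2 := le_mul_centIn hG W hWle hvW
      rw [hW, hset, hc512, ← Nat.card_coe_set_eq] at h1 h2
      have h3 : Nat.card (Tr Q z v) =
          Nat.card ↥(Q (v : G) ⊓ Subgroup.centralizer ({z} : Set G)) :=
        Nat.card_congr ⟨fun a => ⟨((a : ↥(Subgroup.centralizer ({z} : Set G))) : G), a.2, a.1.2⟩,
          fun a => ⟨⟨a, a.2.2⟩, a.2.1⟩, fun _ => rfl, fun _ => rfl⟩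
      rw [h3]
      have h4 : 4 * Nat.card ↥(Q (v : G) ⊓ Subgroup.centralizer ({z} : Set G)) = 1024 :=
        le_antisymm h1 h2
      omega
    · intro A hA hvA
      have h1 := mul_centIn_le hG (A.map (Subgroup.centralizer ({z} : Set G)).subtype)
        (by rintro _ ⟨a, ha, rfl⟩; exact hA ha) ⟨v, hvA, rfl⟩
      rw [Subgroup.card_map_of_injective (Subgroup.subtype_injective _), hc512] at h1
      refine le_trans (Nat.mul_le_mul_left _ ?_) h1
      rw [← Nat.card_coe_set_eq]
      refine Nat.card_le_card_of_injective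
        (fun a => (⟨((a : ↥(Subgroup.centralizer ({z} : Set G))) : G), ?_⟩ :
          {x // x ∈ centIn (Q (v : G)) (A.map (Subgroup.centralizer ({z} : Set G)).subtype)})) ?_
      · refine ⟨a.2.1, ?_⟩
        rintro _ ⟨b, hb, rfl⟩
        exact congrArg Subtype.val (Subgroup.mem_centralizer_iff.1 a.2.2 b hb).symm
      · intro a b e
        have e' := Subtype.ext_iff.1 e
        exact Subtype.ext (Subtype.ext e')
  conj := by
    rintro h v ⟨⟨g, hg⟩, hvQ, hvz⟩
    have hhz : (h : G) * z = z * h := Subgroup.mem_centralizer_singleton_iff.1 h.2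
    refine ⟨⟨h * g, ?_⟩, M.goodz.norm h hhz _ hvQ, fun e => hvz ?_⟩
    · push_cast
      rw [← hg]
      group
    · push_cast at e
      calc (v : G) = (h : G)⁻¹ * ((h : G) * v * (h : G)⁻¹) * h := by group
        _ = (h : G)⁻¹ * (z * h) := by rw [e, mul_assoc]
        _ = z := by rw [← hhz, inv_mul_cancel_left]
  equiv := fun h v _ a ha => M.core.conj_mem (h : G) ha

end Glob

end Cfsg.Agent.Lib.LargeNine45
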