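import Mathlib
import Cfsg.Agent.Lib.LargeExtra.ResidualTransfer
import Cfsg.Agent.Lib.LargeNine45.Act

/-!
A conjugate `v` of `z` inside `X`, seen through `S = O₂(C(v)) ∩ C(z)` (helper45).
-/

set_option autoImplicit false

namespace Cfsg.Agent.Lib.LargeNine45

open Equiv LargeExtra
open scoped commutatorElement

variable {H : Type*} [Group H] [Finite H] {X : Subgroup H} {z : H} {φ : H →* T}
variable [(Subgroup.zpowers z).Normal]

local notation "π" => pz z

/-- `v ∈ X` a conjugate of `z` and `S = O₂(C(v)) ∩ C(z)`. -/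
structure Pair (X : Subgroup H) (z v : H) (S : Subgroup H) [(Subgroup.zpowers z).Normal] : Prop where
  vX : v ∈ X
  v_sq : v * v = 1
  pv : pz z v ≠ 1
  vS : v ∈ S
  zS : z ∈ S
  cv : ∀ s ∈ S, Commute s v
  comm : ∀ a ∈ S, ∀ b ∈ S, a * b * a⁻¹ = b ∨ a * b * a⁻¹ = b * v
  sq : ∀ a ∈ S, a * a = 1 ∨ a * a = v
  norm : ∀ h, Commute h v → ∀ s ∈ S, h * s * h⁻¹ ∈ S
  card : Nat.card S = 256
  dual : ∀ A : Subgroup H, A ≤ S → v ∈ A →
    Nat.card A * Nat.card ↥(S ⊓ Subgroup.centralizer (A : Set H)) ≤ 1024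

variable {v : H} {S : Subgroup H}

namespace Pair

theorem v_ne (P : Pair X z v S) : v ≠ 1 := fun e => P.pv (by rw [e, map_one])

theorem v_ne_z (P : Pair X z v S) : v ≠ z := fun e => P.pv (by rw [e, pz_z])

theorem pz_comm_cases (P : Pair X z v S) {a b : H} (ha : a ∈ S) (hb : b ∈ S) :
    π ⁅a, b⁆ = 1 ∨ π ⁅a, b⁆ = π v := by
  rcases P.comm a ha b hb with e | e
  · left; rw [commutatorElement_def, e, mul_inv_cancel, map_one]
  · right; rw [commutatorElement_def, e, (P.cv b hb).eq, mul_inv_cancel_right]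

theorem commute_of_pz (B : Base X z φ) (P : Pair X z v S) {a b : H} (ha : a ∈ S) (hb : b ∈ S)
    (h : π ⁅a, b⁆ = 1) : Commute a b := by
  rcases P.comm a ha b hb with e | e
  · exact conj_eq_iff_comm.1 e
  · exfalso
    rw [commutatorElement_def, e, (P.cv b hb).eq, mul_inv_cancel_right] at h
    exact P.pv h

theorem comm_I (B : Base X z φ) (P : Pair X z v S) {a b : H} (ha : a ∈ X ⊓ S) (hb : b ∈ X ⊓ S) :
    Commute a b := by
  rcases P.comm a ha.2 b hb.2 with e | e
  · exact conj_eq_iff_comm.1 e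
  rcases B.good.comm a ha.1 b hb.1 with e' | e'
  · exact conj_eq_iff_comm.1 e'
  · exact absurd (mul_left_cancel (e.symm.trans e')) P.v_ne_z

theorem sq_I (B : Base X z φ) (P : Pair X z v S) {a : H} (ha : a ∈ X ⊓ S) : a * a = 1 := by
  rcases P.sq a ha.2 with e | e
  · exact e
  rcases B.good.sq_cases ha.1 with e' | e'
  · exact e'
  · exact absurd (e.symm.trans e') P.v_ne_z

theorem z_mem_I (B : Base X z φ) (P : Pair X z v S) : z ∈ X ⊓ S := ⟨B.good.x_mem, P.zS⟩

theorem card_I_le (B : Base X z φ) (P : Pair X z v S) : Nat.card ↥(X ⊓ S) ≤ 32 := by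
  have := sq_card_le_of_comm B.good (X ⊓ S) inf_le_left (P.z_mem_I B) fun a ha b hb => (P.comm_I B ha hb).eq
  rw [B.card] at this
  by_contra h
  have := Nat.mul_le_mul (Nat.lt_of_not_le h) (Nat.lt_of_not_le h)
  omega

theorem card_img (B : Base X z φ) (P : Pair X z v S) :
    Nat.card (S.map φ) * Nat.card ↥(X ⊓ S) = 256 := by
  have h2 := Subgroup.card_mul_index (φ.domRestrict S).ker
  rw [Subgroup.index_ker, MonoidHom.domRestrict_range, P.card] at h2
  have hk : Nat.card (φ.domRestrict S).ker = Nat.card ↥(X ⊓ S) := by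
    rw [MonoidHom.ker_domRestrict, B.ker]
    refine Nat.card_congr ⟨fun a => ⟨(a : S), a.2, (a : S).2⟩, fun a => ⟨⟨a, a.2.2⟩, a.2.1⟩,
      fun _ => rfl, fun _ => rfl⟩
  rw [← hk, mul_comm, h2]

theorem img_comm (B : Base X z φ) (P : Pair X z v S) {a b : T} (ha : a ∈ S.map φ) (hb : b ∈ S.map φ) :
    Commute a b := by
  obtain ⟨s, hs, rfl⟩ := ha
  obtain ⟨t, ht, rfl⟩ := hb
  refine conj_eq_iff_comm.1 ?_
  rw [← map_inv, ← map_mul, ← map_mul]
  rcases P.comm s hs t ht with e | e <;> rw [e]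
  rw [map_mul, B.mem_iff.2 P.vX, mul_one]

theorem img_sq (B : Base X z φ) (P : Pair X z v S) {a : T} (ha : a ∈ S.map φ) : a * a = 1 := by
  obtain ⟨s, hs, rfl⟩ := ha
  rw [← map_mul]
  rcases P.sq s hs with e | e <;> rw [e]
  exacts [map_one φ, B.mem_iff.2 P.vX]

theorem centre_cases (B : Base X z φ) (P : Pair X z v S) {i : H} (hi : i ∈ S)
    (hc : ∀ s ∈ S, Commute i s) : π i = 1 ∨ π i = π v := by
  by_contra hcon
  push Not at hcon
  let A : Subgroup H := Subgroup.closure {i, z, v}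
  have hAS : A ≤ S := (Subgroup.closure_le _).2 (by
    rintro a (rfl | rfl | rfl)
    exacts [hi, P.zS, P.vS])
  have hiA : i ∈ A := Subgroup.subset_closure (by simp)
  have hzA : z ∈ A := Subgroup.subset_closure (by simp)
  have hvA : v ∈ A := Subgroup.subset_closure (by simp)
  have hfull : S ⊓ Subgroup.centralizer (A : Set H) = S := inf_eq_left.2 fun s hs => by
    refine Subgroup.mem_centralizer_iff.2 fun a ha => ?_
    have hle : A ≤ Subgroup.centralizer {s} := (Subgroup.closure_le _).2 (by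
      rintro b (rfl | rfl | rfl) <;> rw [SetLike.mem_coe, Subgroup.mem_centralizer_singleton_iff]
      exacts [(hc s hs).eq, (B.zc s).symm.eq, (P.cv s hs).symm.eq])
    exact Subgroup.mem_centralizer_singleton_iff.1 (hle ha)
  have h := P.dual A hAS hvA
  rw [hfull, P.card, B.card_map hzA] at h
  have h2 : Nat.card (A.map π) ≤ 2 := by omega
  let f : Fin 3 → ↥(A.map π) := ![⟨1, one_mem _⟩, ⟨π v, Subgroup.mem_map_of_mem _ hvA⟩,
    ⟨π i, Subgroup.mem_map_of_mem _ hiA⟩]
  have hf : Function.Injective f := by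
    intro a b e
    have e' := congrArg Subtype.val e
    fin_cases a <;> fin_cases b
    all_goals first
      | rfl | exact absurd e' P.pv | exact absurd e'.symm P.pv | exact absurd e' hcon.1
      | exact absurd e'.symm hcon.1 | exact absurd e' hcon.2 | exact absurd e'.symm hcon.2
  have := Nat.card_le_card_of_injective f hf
  rw [Nat.card_fin] at this
  omega

/-- An element of `S` centralising `X ⊓ S`, when this has order `32`, lies in it. -/
theorem mem_I_of_commute (B : Base X z φ) (P : Pair X z v S) (h32 : Nat.card ↥(X ⊓ S) = 32) {s : H}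
    (hs : s ∈ S) (hc : ∀ i ∈ X ⊓ S, Commute s i) : s ∈ X ⊓ S := by
  have h := P.dual (X ⊓ S) inf_le_right ⟨P.vX, P.vS⟩
  rw [h32] at h
  have hle : X ⊓ S ≤ S ⊓ Subgroup.centralizer ((X ⊓ S : Subgroup H) : Set H) := fun a ha =>
    ⟨ha.2, Subgroup.mem_centralizer_iff.2 fun b hb => (P.comm_I B hb ha).eq⟩
  have heq := Subgroup.eq_of_le_of_card_ge hle (by omega)
  have : s ∈ S ⊓ Subgroup.centralizer ((X ⊓ S : Subgroup H) : Set H) :=
    ⟨hs, Subgroup.mem_centralizer_iff.2 fun b hb => (hc b hb).eq.symm⟩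
  rwa [← heq] at this

end Pair

/-- Two members with the same image of `S` coincide. -/
theorem shared (B : Base X z φ) {w : H} {S' : Subgroup H} (P : Pair X z v S) (P' : Pair X z w S')
    (himg : S.map φ = S'.map φ) (h32 : Nat.card ↥(X ⊓ S) = 32) : π v = π w := by
  by_contra hvw
  have h32' : Nat.card ↥(X ⊓ S') = 32 := by
    have h1 := P.card_img B
    have h2 := P'.card_img B
    rw [himg, h32] at h1
    have h8 : Nat.card (S'.map φ) = 8 := by omega
    rw [h8] at h2
    omega
  have htrans : ∀ s ∈ S, ∃ s' ∈ S', φ s' = φ s := fun s hs => by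
    obtain ⟨s', hs', e⟩ := himg ▸ Subgroup.mem_map_of_mem φ hs
    exact ⟨s', hs', e⟩
  have htrans' : ∀ s ∈ S', ∃ s' ∈ S, φ s' = φ s := fun s hs => by
    obtain ⟨s', hs', e⟩ := himg.symm ▸ Subgroup.mem_map_of_mem φ hs
    exact ⟨s', hs', e⟩
  have hconj : ∀ {s s' i : H}, φ s' = φ s → i ∈ X → π ⁅s', i⁆ = π ⁅s, i⁆ := fun {s s' i} e hi => by
    simp only [commutatorElement_def, map_mul π _ i⁻¹]
    rw [B.pz_conj_congr e hi]
  -- the two intersections meet in `⟨z⟩`
  have hmeet : ∀ i ∈ X ⊓ S, i ∈ X ⊓ S' → π i = 1 := by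
    intro i hi hi'
    have k1 : ∀ s ∈ S, Commute i s := fun s hs => by
      obtain ⟨s', hs', e⟩ := htrans s hs
      refine (P.commute_of_pz B hs hi.2 ?_).symm
      rcases P.pz_comm_cases hs hi.2 with a | a
      · exact a
      rcases P'.pz_comm_cases hs' hi'.2 with b | b <;> rw [hconj e hi.1, a] at b
      · exact absurd b P.pv
      · exact absurd b hvw
    have k2 : ∀ s ∈ S', Commute i s := fun s hs => by
      obtain ⟨s', hs', e⟩ := htrans' s hs
      refine (P'.commute_of_pz B hs hi'.2 ?_).symm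
      rcases P'.pz_comm_cases hs hi'.2 with a | a
      · exact a
      rcases P.pz_comm_cases hs' hi.2 with b | b <;> rw [hconj e hi'.1, a] at b
      · exact absurd b P'.pv
      · exact absurd b.symm hvw
    rcases P.centre_cases B hi.2 k1 with a | a
    · exact a
    rcases P'.centre_cases B hi'.2 k2 with b | b
    · exact b
    · exact absurd (a.symm.trans b) hvw
  -- so their product is everything
  have hsurj : ∀ x ∈ X, ∃ i ∈ X ⊓ S, ∃ j ∈ X ⊓ S', π x = π i * π j := by
    intro x hx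
    have hc1 : Nat.card ((X ⊓ S).map π) = 16 := by have := B.card_map (P.z_mem_I B); omega
    have hc2 : Nat.card ((X ⊓ S').map π) = 16 := by have := B.card_map (P'.z_mem_I B); omega
    have hcX : Nat.card (X.map π) = 256 := by have := B.card_map B.good.x_mem; rw [B.card] at this; omega
    let f : ↥((X ⊓ S).map π) × ↥((X ⊓ S').map π) → ↥(X.map π) := fun p =>
      ⟨p.1.1 * p.2.1, mul_mem (Subgroup.map_mono inf_le_left p.1.2) (Subgroup.map_mono inf_le_left p.2.2)⟩
    have hinj : Function.Injective f := by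
      rintro ⟨⟨_, a, ha, rfl⟩, ⟨_, b, hb, rfl⟩⟩ ⟨⟨_, a', ha', rfl⟩, ⟨_, b', hb', rfl⟩⟩ e
      have e' : π a * π b = π a' * π b' := congrArg Subtype.val e
      have hk : π (a'⁻¹ * a) = π (b' * b⁻¹) := by
        simp only [map_mul, map_inv]
        calc (π a')⁻¹ * π a = (π a')⁻¹ * (π a * π b) * (π b)⁻¹ := by group
          _ = π b' * (π b)⁻¹ := by rw [e']; group
      have hmem : a'⁻¹ * a ∈ X ⊓ S' := by
        rcases B.eq_or_of_pz hk.symm with e2 | e2 <;> rw [e2]
        exacts [mul_mem hb' (inv_mem hb), mul_mem (mul_mem hb' (inv_mem hb)) (P'.z_mem_I B)]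
      have h1 := hmeet _ (mul_mem (inv_mem ha') ha) hmem
      rw [map_mul, map_inv, inv_mul_eq_one] at h1
      rw [← h1] at e'
      have h2 := mul_left_cancel e'
      exact Prod.ext (Subtype.ext h1.symm) (Subtype.ext h2)
    obtain ⟨⟨⟨_, a, ha, rfl⟩, ⟨_, b, hb, rfl⟩⟩, e⟩ := (hinj.bijective_of_nat_card_le (by
      rw [Nat.card_prod, hc1, hc2, hcX])).2 ⟨π x, Subgroup.mem_map_of_mem _ hx⟩
    exact ⟨a, ha, b, hb, (congrArg Subtype.val e).symm⟩
  -- an element of `I'` not commuting with `v`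
  obtain ⟨j, hj, hjv⟩ : ∃ j ∈ X ⊓ S', ¬ Commute v j := by
    by_contra hcon
    push Not at hcon
    have hall : ∀ x ∈ X, v * x = x * v := fun x hx => by
      obtain ⟨a, ha, b, hb, e⟩ := hsurj x hx
      rw [← map_mul] at e
      exact ((B.commute_congr e).2 (((P.comm_I B ⟨P.vX, P.vS⟩ ha).mul_right (hcon b hb)).symm)).eq.symm
    exact (B.good.centre v P.vX hall).elim P.v_ne P.v_ne_z
  have hshift : ∀ {s s' a b : H}, φ s' = φ s → a ∈ X → b ∈ X →
      (Commute (s * a * s⁻¹) (s' * b * s'⁻¹) ↔ Commute a b) := fun {s s' a b} e ha hb => by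
    rw [← Commute.conj_iff s (a := a) (b := b)]
    exact ⟨fun h => ((B.commute_congr (B.pz_conj_congr e hb)).1 h.symm).symm,
      fun h => ((B.commute_congr (B.pz_conj_congr e hb)).2 h.symm).symm⟩
  -- outside `X` every element of `S` acts on `X ⊓ S` through `w`
  have key : ∀ s ∈ S, s ∉ X → ∀ i ∈ X ⊓ S, (Commute s i ↔ Commute i w) := by
    intro s hs hsX
    obtain ⟨s', hs', e⟩ := htrans s hs
    have hs'X : s' ∉ X := fun hh => hsX (B.mem_iff.1 (e ▸ B.mem_iff.2 hh))
    obtain ⟨j1, hj1, hj1s⟩ : ∃ j1 ∈ X ⊓ S', ¬ Commute s' j1 := by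
      by_contra hcon
      push Not at hcon
      exact hs'X (P'.mem_I_of_commute B h32' hs' hcon).1
    have conjS : ∀ i ∈ X ⊓ S, ¬ Commute s i → s * i * s⁻¹ = i * v := fun i hi hn =>
      (P.comm s hs i hi.2).resolve_left fun e1 => hn (conj_eq_iff_comm.1 e1)
    have conjS' : ∀ i ∈ X ⊓ S', ¬ Commute s' i → s' * i * s'⁻¹ = i * w := fun i hi hn =>
      (P'.comm s' hs' i hi.2).resolve_left fun e1 => hn (conj_eq_iff_comm.1 e1)
    have fixS : ∀ i, Commute s i → s * i * s⁻¹ = i := fun i hc => conj_eq_iff_comm.2 hc.eq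
    have fixS' : ∀ i, Commute s' i → s' * i * s'⁻¹ = i := fun i hc => conj_eq_iff_comm.2 hc.eq
    have hvw' : Commute v w := by
      have h1 := hshift e P.vX hj1.1
      rw [fixS v (P.cv s hs), conjS' j1 hj1 hj1s] at h1
      have h2 := B.commute_div (mul_mem hj1.1 P'.vX) hj1.1 P.vX
        ⟨fun h => (h1.1 h.symm).symm, fun h => (h1.2 h.symm).symm⟩
      have e3 : j1 * w * j1⁻¹ = w := conj_eq_iff_comm.2 (P'.cv j1 hj1.2).eq
      rw [e3] at h2
      exact h2.symm
    have hmulc : ∀ {a b c : H}, a ∈ X → b ∈ X → c ∈ X →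
        (Commute (a * b) c ↔ (Commute a c ↔ Commute b c)) := fun {a b c} ha hb hc => by
      refine ⟨fun h => ⟨fun h1 => ?_, fun h1 => ?_⟩, fun h => ?_⟩
      · have := h1.inv_left.mul_left h
        rwa [inv_mul_cancel_left] at this
      · have := h.mul_left h1.inv_left
        rwa [mul_inv_cancel_right] at this
      · have := B.commute_div ha (inv_mem hb) hc (h.trans ⟨fun h1 => h1.inv_left, fun h1 => by simpa using h1.inv_left⟩)
        rwa [inv_inv] at this
    intro i hi
    have hb := hshift e hi.1 hj.1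
    by_cases hsi : Commute s i <;> by_cases hsj : Commute s' j
    · -- then `s` centralises everything of this kind
      exfalso
      have hall : ∀ i' ∈ X ⊓ S, Commute s i' := fun i' hi' => by
        by_contra hn
        have h1 := hshift e hi'.1 hj.1
        rw [conjS i' hi' hn, fixS' j hsj, hmulc hi'.1 P.vX hj.1] at h1
        by_cases hc : Commute i' j <;> simp [hc, hjv] at h1
      exact hsX (P.mem_I_of_commute B h32 hs hall).1
    · rw [fixS i hsi, conjS' j hj hsj] at hb
      refine iff_of_true hsi ?_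
      have h1 := (hmulc hj.1 P'.vX hi.1).1
      by_cases hc : Commute i j
      · exact ((h1 (hb.2 hc).symm).1 hc.symm).symm
      · by_contra hn
        exact hc (hb.1 ((hmulc hj.1 P'.vX hi.1).2 (iff_of_false (fun h => hc h.symm) (fun h => hn h.symm))).symm)
    · rw [conjS i hi hsi, fixS' j hsj, hmulc hi.1 P.vX hj.1] at hb
      by_cases hc : Commute i j <;> simp [hc, hjv] at hb
    · rw [conjS i hi hsi, conjS' j hj hsj, hmulc hi.1 P.vX (mul_mem hj.1 P'.vX)] at hb
      refine iff_of_false hsi fun hiw => ?_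
      have hjw : Commute v (j * w) ↔ Commute v j := by
        constructor <;> intro h
        · have := h.mul_right hvw'.inv_right; rwa [mul_inv_cancel_right] at this
        · exact h.mul_right hvw'
      have hiw' : Commute i (j * w) ↔ Commute i j := by
        constructor <;> intro h
        · have := h.mul_right hiw.inv_right; rwa [mul_inv_cancel_right] at this
        · exact h.mul_right hiw
      rw [hjw, hiw'] at hb
      by_cases hc : Commute i j <;> simp [hc, hjv] at hb
  -- so the image of `S` has order at most `2`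
  have h8 : Nat.card (S.map φ) = 8 := by have := P.card_img B; rw [h32] at this; omega
  obtain ⟨a, ha, b, hb, hne1, hne2, hab⟩ : ∃ a ∈ S.map φ, ∃ b ∈ S.map φ, a ≠ 1 ∧ b ≠ 1 ∧ a ≠ b := by
    by_contra hcon
    push Not at hcon
    have : Subsingleton {a : ↥(S.map φ) // a ≠ 1} := ⟨fun a b => Subtype.ext (Subtype.ext
      (hcon _ a.1.2 _ b.1.2 (fun h => a.2 (Subtype.ext h)) (fun h => b.2 (Subtype.ext h))))⟩
    have h1 : Nat.card {a : ↥(S.map φ) // a ≠ 1} ≤ 1 := Finite.card_le_one_iff_subsingleton.2 this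
    have h2 := Set.ncard_compl ({1} : Set ↥(S.map φ)) (Set.toFinite _)
    rw [Set.ncard_singleton, h8, ← Nat.card_coe_set_eq] at h2
    exact absurd (h2 ▸ h1 : (8 : ℕ) - 1 ≤ 1) (by norm_num)
  obtain ⟨s, hs, rfl⟩ := ha
  obtain ⟨t, ht, rfl⟩ := hb
  have hsX : s ∉ X := fun h => hne1 (B.mem_iff.2 h)
  have htX : t ∉ X := fun h => hne2 (B.mem_iff.2 h)
  have hst : s⁻¹ * t ∈ X ⊓ S := by
    refine P.mem_I_of_commute B h32 (mul_mem (inv_mem hs) ht) fun i hi => ?_
    have e1 := key s hs hsX i hi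
    have e2 := key t ht htX i hi
    by_cases hc : Commute i w
    · exact (e1.2 hc).inv_left.mul_left (e2.2 hc)
    · have c1 : s * i * s⁻¹ = i * v := (P.comm s hs i hi.2).resolve_left fun h => hc (e1.1 (conj_eq_iff_comm.1 h))
      have c2 : t * i * t⁻¹ = i * v := (P.comm t ht i hi.2).resolve_left fun h => hc (e2.1 (conj_eq_iff_comm.1 h))
      refine conj_eq_iff_comm.1 ?_
      calc s⁻¹ * t * i * (s⁻¹ * t)⁻¹ = s⁻¹ * (t * i * t⁻¹) * s := by group
        _ = i := by rw [c2, ← c1]; group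
  exact hab (inv_mul_eq_one.1 (by rw [← map_inv, ← map_mul]; exact B.mem_iff.2 hst.1))

end Cfsg.Agent.Lib.LargeNine45
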