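import Cfsg.Agent.Lib.LargeNine45.Perm

/-!
Further facts on `S₃` and `S₆` (helper45).
-/

set_option autoImplicit false

namespace Cfsg.Agent.Lib.LargeNine45

open Equiv

theorem three_exists : ∃ p : P3, p ^ 3 = 1 ∧ p ≠ 1 := ⟨swap 0 1 * swap 1 2, by decide +kernel⟩

theorem comm_invol_three : ∀ s r : P3, s * s = 1 → s ≠ 1 → r * s = s * r → r = 1 ∨ r = s := by
  decide +kernel

theorem exists_partner_three : ∀ s : P3, s * s = 1 → s ≠ 1 →
    ∃ d, d * s * d⁻¹ * s ≠ 1 ∧ d * s * d⁻¹ * s ≠ s := by decide +kernel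

theorem conj_invol_three : ∀ s t : P3, s * s = 1 → s ≠ 1 → t * t = 1 → t ≠ 1 →
    ∃ d, d * s * d⁻¹ = t := by decide +kernel

theorem exists_conj_noncomm : ∀ f : P6, Perm.sign f = 1 → f * f = 1 → f ≠ 1 →
    ∃ q, Perm.sign q = 1 ∧ f * (q * f * q⁻¹) ≠ q * f * q⁻¹ * f := by decide +kernel

theorem exists_conj_base : ∀ f : P6, Perm.sign f = 1 → f * f = 1 → f ≠ 1 →
    ∃ q, q * f * q⁻¹ = swap 0 2 * swap 1 3 := by decide +kernel

end Cfsg.Agent.Lib.LargeNine45
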