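import Cfsg.Agent.Lib.LargeNine45.Twisted

/-!
The case that `A` and `g A g⁻¹` commute is impossible as well (helper45).
-/

set_option autoImplicit false

namespace Cfsg.Agent.Lib.LargeNine45

open Equiv LargeExtra
open scoped commutatorElement

variable {G : Type*} [Group G] [Finite G] {Q : G → Subgroup G} {z : G}
  {φ : ↥(Subgroup.centralizer ({z} : Set G)) →* T}
  {v D : ↥(Subgroup.centralizer ({z} : Set G))} {s : P3}
  {A : Subgroup ↥(Subgroup.centralizer ({z} : Set G))}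

/-- Two elements moving `a` by central factors have a commutator fixing `a`. -/
theorem commutator_fix {H : Type*} [Group H] {a l1 l2 c1 c2 : H} (h1 : ∀ x, Commute x c1)
    (h2 : ∀ x, Commute x c2) (e1 : l1 * a * l1⁻¹ = a * c1) (e2 : l2 * a * l2⁻¹ = a * c2) :
    Commute ⁅l1, l2⁆ a := by
  have h12 : l1 * l2 * a * (l1 * l2)⁻¹ = a * (c1 * c2) := by
    calc l1 * l2 * a * (l1 * l2)⁻¹ = l1 * (l2 * a * l2⁻¹) * l1⁻¹ := by group
      _ = l1 * a * l1⁻¹ * (l1 * c2 * l1⁻¹) := by rw [e2]; group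
      _ = a * (c1 * c2) := by rw [e1, (h2 l1).eq]; group
  have h21 : l2 * l1 * a * (l2 * l1)⁻¹ = a * (c1 * c2) := by
    calc l2 * l1 * a * (l2 * l1)⁻¹ = l2 * (l1 * a * l1⁻¹) * l2⁻¹ := by group
      _ = l2 * a * l2⁻¹ * (l2 * c1 * l2⁻¹) := by rw [e1]; group
      _ = a * (c1 * c2) := by rw [e2, (h1 l2).eq, (h1 c2).eq.symm]; group
  have e : ⁅l1, l2⁆ * (a * (c1 * c2)) * ⁅l1, l2⁆⁻¹ = a * (c1 * c2) := by
    conv_lhs => rw [← h21]
    rw [← h12]
    simp only [commutatorElement_def]; group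
  have hc := ((h1 ⁅l1, l2⁆).mul_right (h2 ⁅l1, l2⁆)).inv_right
  have := (show Commute ⁅l1, l2⁆ (a * (c1 * c2)) from mul_inv_eq_iff_eq_mul.1 e).mul_right hc
  rwa [mul_inv_cancel_right] at this

namespace GCtx

variable {g : G}

theorem false_straight (K : GCtx Q z φ v s A D) (hg : IsSwap z (v : G) g)
    (hall : ∀ x ∈ K.AG, ∀ a ∈ K.AG, ⁅x, g * a * g⁻¹⁆ = 1 ∨ ⁅x, g * a * g⁻¹⁆ = z) : False := by
  have hvz : (v : G) ≠ z := K.ctx.hv.2.2
  -- the two groups commute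
  have hcomm : ∀ x ∈ K.AG, ∀ a ∈ K.AG, Commute x (g * a * g⁻¹) := by
    intro x hx a ha
    have h1 := hall x hx a ha
    have h2 := hall _ (K.swap_AV hg ha) x hx
    rw [show ⁅g * (g * a * g⁻¹) * g⁻¹, g * x * g⁻¹⁆ = g * ⁅x, g * a * g⁻¹⁆⁻¹ * g⁻¹ by
      simp only [commutatorElement_def]; group] at h2
    refine commutatorElement_eq_one_iff_commute.1 ?_
    rcases h1 with e | e
    · exact e
    rw [e, inv_eq_of_mul_eq_one_right K.glob.goodz.x_sq, hg.2] at h2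
    rcases h2 with r | r
    · exact absurd r (fun r => K.ctx.pair.v_ne (Subtype.ext r))
    · exact absurd r hvz
  obtain ⟨a0, ha0, ha0L⟩ : ∃ a0 ∈ K.AG, a0 ∉ K.LG := by
    by_contra hcon
    push Not at hcon
    have := Subgroup.card_le_of_le (show K.AG ≤ K.LG from hcon)
    rw [K.card_AG, K.card_LG] at this
    omega
  set av := g * a0 * g⁻¹ with hav
  have havz : Commute av z := K.AV_comm_z hg ha0
  let aH : ↥(Subgroup.centralizer ({z} : Set G)) := ⟨av, Subgroup.mem_centralizer_singleton_iff.2 havz⟩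
  have havQ : av ∉ Q z := K.AV_notMem hg ha0 ha0L
  let X := (Q z).subgroupOf (Subgroup.centralizer ({z} : Set G))
  have hφa : φ aH = (s, 1) := by
    refine (K.ctx.img_of_fix_A fun a ha => congrArg _ (Subtype.ext ?_)).resolve_left fun h =>
      havQ (K.ctx.base.mem_iff.1 h)
    show av * (a : G) * av⁻¹ = a
    exact mul_inv_eq_iff_eq_mul.2 (hcomm a (K.coe_mem_AG.2 ha) a0 ha0).symm.eq
  -- the centraliser of `A`
  let Dm : G → Prop := fun h => Commute h z ∧ ∀ a ∈ K.AG, Commute h a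
  have hDA : ∀ y ∈ K.AG, Dm y := fun y hy => ⟨K.AG_comm_z hy, fun a ha => K.AG_comm hy ha⟩
  have hDQ : ∀ h, Dm h → h ∈ Q z → h ∈ K.AG := fun h hh hQ =>
    ⟨⟨h, Subgroup.mem_centralizer_singleton_iff.2 hh.1⟩,
      K.ctx.base.mem_of_commute32 K.ctx.A_le K.ctx.z_mem (fun a ha b hb => K.ctx.comm_A ha hb)
        K.ctx.card_A hQ fun a ha => Subtype.ext (hh.2 _ (K.coe_mem_AG.2 ha)).eq, rfl⟩
  have hav_comm : ∀ a ∈ K.AG, Commute av a := fun a ha => (hcomm a ha a0 ha0).symm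
  have hDcoset : ∀ h, Dm h → h ∈ K.AG ∨ av⁻¹ * h ∈ K.AG := by
    intro h hh
    let hH : ↥(Subgroup.centralizer ({z} : Set G)) := ⟨h, Subgroup.mem_centralizer_singleton_iff.2 hh.1⟩
    rcases K.ctx.img_of_fix_A (h := hH) (fun a ha => congrArg _ (Subtype.ext (by
      show h * (a : G) * h⁻¹ = a
      exact mul_inv_eq_iff_eq_mul.2 (hh.2 _ (K.coe_mem_AG.2 ha)).eq))) with e | e
    · exact Or.inl (hDQ h hh (K.ctx.base.mem_iff.1 e : hH ∈ _))
    · exact Or.inr (hDQ _ ⟨havz.inv_left.mul_left hh.1, fun a ha =>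
        (hav_comm a ha).inv_left.mul_left (hh.2 a ha)⟩ (K.ctx.base.div_mem (hφa.trans e.symm) : aH⁻¹ * hH ∈ _))
  have hDAV : ∀ h, Dm h → ∀ a ∈ K.AG, Commute h (g * a * g⁻¹) := by
    intro h hh a ha
    rcases hDcoset h hh with e | e
    · exact hcomm h e a ha
    · have h1 : Commute av (g * a * g⁻¹) := commute_conj_left (K.AG_comm ha0 ha)
      have := h1.mul_left (hcomm _ e a ha)
      rwa [mul_inv_cancel_left] at this
  have hgD : ∀ t, IsSwap z (v : G) t → (∀ h, Dm h → ∀ a ∈ K.AG, Commute h (t⁻¹ * a * t)) →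
      ∀ h, Dm h → Dm (t * h * t⁻¹) := by
    intro t ht hav' h hh
    refine ⟨?_, fun a ha => ?_⟩
    · have := commute_conj_left (g := t) (hh.2 (v : G) K.v_mem_AG)
      rwa [ht.1] at this
    · have := commute_conj_left (g := t) (hav' h hh a ha)
      rwa [show t * (t⁻¹ * a * t) * t⁻¹ = a by group] at this
  -- `g⁻¹ A g = g A g⁻¹`
  have hback : ∀ a ∈ K.AG, ∃ b ∈ K.AG, g⁻¹ * a * g = g * b * g⁻¹ := fun a ha =>
    ⟨g⁻¹ * (g⁻¹ * a * g⁻¹⁻¹) * g⁻¹⁻¹, K.swap_AV hg.inv ha, by group⟩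
  have hD1 : ∀ h, Dm h → Dm (g * h * g⁻¹) := hgD g hg fun h hh a ha => by
    obtain ⟨b, hb, e⟩ := hback a ha
    rw [e]; exact hDAV h hh b hb
  have hD2 : ∀ h, Dm h → Dm (g⁻¹ * h * g) := fun h hh => by
    have := hgD g⁻¹ hg.inv (fun h hh a ha => by rw [inv_inv]; exact hDAV h hh a ha) h hh
    rwa [inv_inv] at this
  have hDl : ∀ (q : P6) (l : ↥(Subgroup.centralizer ({z} : Set G))), IsLift φ q l →
      ∀ h, Dm h → Dm ((l : G) * h * (l : G)⁻¹) := by
    intro q l hl h hh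
    have hlz : Commute (l : G) z := Subgroup.mem_centralizer_singleton_iff.1 l.2
    refine ⟨(hlz.mul_left hh.1).mul_left hlz.inv_left, fun a ha => ?_⟩
    have hl' : IsLift φ q⁻¹ l⁻¹ :=
      ⟨by rw [map_inv, hl.1]; exact Prod.ext (by simp) rfl, by simp [hl.2]⟩
    obtain ⟨b, hb, rfl⟩ := ha
    have := commute_conj_left (g := (l : G))
      (hh.2 _ (K.coe_mem_AG.2 (K.ctx.norm_lift hl' hb)))
    simp only [Subgroup.coe_mul, Subgroup.coe_inv, inv_inv] at this
    rwa [show (l : G) * ((l : G)⁻¹ * (b : G) * (l : G)) * (l : G)⁻¹ = b by group] at this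
  -- the element `g'`
  have hw0 : a0 ≠ 1 ∧ a0 ≠ z := ⟨fun e => ha0L (e ▸ one_mem _), fun e => ha0L (e ▸ K.z_mem_LG)⟩
  obtain ⟨q, h, hl, hh⟩ := K.trans ha0 hw0.1 hw0.2
  have hlinv : IsLift φ q⁻¹ h⁻¹ :=
    ⟨by rw [map_inv, hl.1]; exact Prod.ext (by simp) rfl, by simp [hl.2]⟩
  set g' := g * (h : G) * g with hg'
  have hg'z : g' * z * g'⁻¹ = av := by
    calc g' * z * g'⁻¹ = g * ((h : G) * (g * z * g⁻¹) * (h : G)⁻¹) * g⁻¹ := by rw [hg']; group
      _ = av := by rw [hg.2, hh]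
  have hD3 : ∀ y, Dm y → Dm (g' * y * g'⁻¹) := fun y hy => by
    have := hD1 _ (hDl q h hl _ (hD1 y hy))
    rwa [show g * ((h : G) * (g * y * g⁻¹) * (h : G)⁻¹) * g⁻¹ = g' * y * g'⁻¹ by rw [hg']; group] at this
  have hD4 : ∀ y, Dm y → Dm (g'⁻¹ * y * g') := fun y hy => by
    have := hD2 _ (hDl q⁻¹ h⁻¹ hlinv _ (hD2 y hy))
    rwa [show g⁻¹ * (((h⁻¹ : ↥(Subgroup.centralizer ({z} : Set G))) : G) * (g⁻¹ * y * g) *
      ((h⁻¹ : ↥(Subgroup.centralizer ({z} : Set G))) : G)⁻¹) * g = g'⁻¹ * y * g' by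
        rw [hg']; push_cast; group] at this
  obtain ⟨gv, hgv⟩ := K.ctx.hv.1
  have hgoodA : Good (Q av) av := by
    have he : av = g' * z * g'⁻¹ := hg'z.symm
    exact he.symm ▸ K.glob.good g'
  let Bs : Subgroup G := K.AG ⊓ K.AG.comap (MulAut.conj g'⁻¹).toMonoidHom
  have hmemBs : ∀ y, y ∈ Bs ↔ y ∈ K.AG ∧ g'⁻¹ * y * g' ∈ K.AG := fun y => by
    simp [Bs, Subgroup.mem_inf, Subgroup.mem_comap]
  have hzB : g'⁻¹ * z * g' ∉ K.AG := fun hh' => by
    have h1 := K.glob.core.conj_mem g' (K.AG_le hh')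
    rw [show g' * (g'⁻¹ * z * g') * g'⁻¹ = z by group, hg'z] at h1
    exact havQ (K.glob.core.orth_symm K.glob.goodz hgoodA h1)
  have hzBs : z ∉ Bs := fun hh' => hzB ((hmemBs z).1 hh').2
  -- `A = Bs ∪ Bs z`
  have hcover : ∀ y ∈ K.AG, y ∈ Bs ∨ y * z ∈ Bs := by
    obtain ⟨b1, hb1, hb1A⟩ : ∃ b1 ∈ K.AG, g' * b1 * g'⁻¹ ∉ K.AG := by
      by_contra hcon
      push Not at hcon
      let f : ↥K.AG → ↥K.AG := fun b => ⟨g' * b * g'⁻¹, hcon b b.2⟩
      have hf : Function.Injective f := fun a b e =>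
        Subtype.ext (mul_left_cancel (mul_right_cancel (Subtype.ext_iff.1 e)))
      obtain ⟨⟨b, hb⟩, e⟩ := hf.bijective_of_finite.2 ⟨z, K.z_mem_AG⟩
      have e' : g' * b * g'⁻¹ = z := Subtype.ext_iff.1 e
      exact hzB ((show g'⁻¹ * z * g' = b by rw [← e']; group) ▸ hb)
    let S1 : Set ↥K.AG := {b | g' * (b : G) * g'⁻¹ ∈ K.AG}
    have hS1 : 16 ≤ S1.ncard := by
      have hd := Set.ncard_add_ncard_compl S1
      rw [K.card_AG] at hd
      have : S1ᶜ.ncard ≤ S1.ncard := by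
        refine Set.ncard_le_ncard_of_injOn (fun b => (⟨b1, hb1⟩ : ↥K.AG)⁻¹ * b) ?_
          (fun a _ b _ e => mul_left_cancel e) (Set.toFinite _)
        intro b hb
        have hb' : g' * (b : G) * g'⁻¹ ∉ K.AG := hb
        have e1 := (hDcoset _ (hD3 b1 (hDA b1 hb1))).resolve_left hb1A
        have e2 := (hDcoset _ (hD3 (b : G) (hDA _ b.2))).resolve_left hb'
        have := mul_mem (inv_mem e1) e2
        show g' * (b1⁻¹ * (b : G)) * g'⁻¹ ∈ K.AG
        convert this using 1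
        group
      omega
    have hBs16 : 16 ≤ Nat.card Bs := by
      refine le_trans hS1 ?_
      rw [← Nat.card_coe_set_eq]
      refine Nat.card_le_card_of_injective (fun b => ⟨g' * ((b : ↥K.AG) : G) * g'⁻¹, (hmemBs _).2
        ⟨b.2, by rw [show g'⁻¹ * (g' * ((b : ↥K.AG) : G) * g'⁻¹) * g' = ((b : ↥K.AG) : G) by group]; exact b.1.2⟩⟩) ?_
      intro a b e
      exact Subtype.ext (Subtype.ext (mul_left_cancel (mul_right_cancel (Subtype.ext_iff.1 e))))
    intro y hy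
    have hset : (Bs : Set G) ∪ (· * z) '' (Bs : Set G) = (K.AG : Set G) := by
      refine Set.eq_of_subset_of_ncard_le ?_ ?_ (Set.toFinite _)
      · rintro _ (hb | ⟨b, hb, rfl⟩)
        · exact ((hmemBs _).1 hb).1
        · exact mul_mem ((hmemBs _).1 hb).1 K.z_mem_AG
      · rw [Set.ncard_union_eq ?_ (Set.toFinite _) (Set.toFinite _),
          Set.ncard_image_of_injective _ (mul_left_injective z), ← Nat.card_coe_set_eq,
          ← Nat.card_coe_set_eq]
        · show Nat.card ↥K.AG ≤ Nat.card ↥Bs + Nat.card ↥Bs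
          rw [K.card_AG]; omega
        · rw [Set.disjoint_left]
          rintro _ hb ⟨b, hb', rfl⟩
          exact hzBs (by have := mul_mem (inv_mem hb') hb; rwa [inv_mul_cancel_left] at this)
    have hy' : y ∈ (Bs : Set G) ∪ (· * z) '' (Bs : Set G) := by rw [hset]; exact hy
    rcases hy' with r | ⟨b, hb, rfl⟩
    · exact Or.inl r
    · refine Or.inr ?_
      rwa [mul_assoc, K.glob.goodz.x_sq, mul_one]
  -- the lifts centralising `av`
  have hφinv : φ aH⁻¹ = (s, 1) := by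
    rw [map_inv, hφa]
    exact Prod.ext (inv_eq_of_mul_eq_one_right K.ctx.hax.1) inv_one
  have hIm : K.ctx.base.Im aH⁻¹ = A := (K.ctx.sig _ hφinv).1
  have hAut : ∀ q : P6, Perm.sign q = 1 → ∃ (l : ↥(Subgroup.centralizer ({z} : Set G))) (c : _),
      φ l = (1, q) ∧ (c = 1 ∨ c = zC z) ∧ l * aH * l⁻¹ = aH * c := by
    intro q hq
    obtain ⟨l, hl⟩ := K.ctx.base.surjA q hq
    have hD5 := hDl q l ⟨hl, hq⟩ av ⟨havz, hav_comm⟩
    have hnA : (l : G) * av * (l : G)⁻¹ ∉ K.AG := fun hh' => havQ (by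
      have hlz : Commute (l : G) z := Subgroup.mem_centralizer_singleton_iff.1 l.2
      have := K.glob.goodz.norm (l : G)⁻¹ hlz.inv_left.eq _ (K.AG_le hh')
      rwa [show (l : G)⁻¹ * ((l : G) * av * (l : G)⁻¹) * (l : G)⁻¹⁻¹ = av by group] at this)
    obtain ⟨a, ha, hae⟩ := (hDcoset _ hD5).resolve_left hnA
    have hla : l * aH * l⁻¹ = aH * a := Subtype.ext (by
      push_cast
      show (l : G) * av * (l : G)⁻¹ = av * (a : G)
      rw [show (a : G) = av⁻¹ * ((l : G) * av * (l : G)⁻¹) from hae]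
      group)
    have ha' : a ∈ K.ctx.base.Im aH⁻¹ := hIm.symm ▸ ha
    obtain ⟨x, hxX, hxe⟩ := K.ctx.base.mem_Im.1 ha'
    refine ⟨x⁻¹ * l, ⁅aH⁻¹, x⁻¹⁆ * (x⁻¹ * a * x), ?_, ?_, ?_⟩
    · rw [map_mul, map_inv, K.ctx.base.mem_iff.2 hxX, inv_one, one_mul, hl]
    · have key : pz (zC z) (⁅aH⁻¹, x⁻¹⁆ * (x⁻¹ * a * x)) = 1 := by
        have h1 : pz (zC z) ⁅aH⁻¹, x⁻¹⁆ = (pz (zC z) a)⁻¹ := by
          rw [← hxe]
          exact map_inv (K.ctx.base.delta aH⁻¹) ⟨x, hxX⟩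
        have hax : pz (zC z) (x⁻¹ * a * x) = pz (zC z) a := by
          rw [map_mul, map_mul, map_inv,
            (K.ctx.base.pz_comm hxX (K.ctx.A_le ha)).inv_left.eq, inv_mul_cancel_right]
        rw [map_mul, h1, hax, inv_mul_cancel]
      exact eq_or_of_mem_zpowers K.ctx.base.good.x_sq (pz_eq_one_iff.1 key)
    · calc x⁻¹ * l * aH * (x⁻¹ * l)⁻¹ = x⁻¹ * (l * aH * l⁻¹) * x := by group
        _ = _ := by rw [hla]; simp only [commutatorElement_def]; group
  have hgoodlift : ∀ q : A6, ∃ l : ↥(Subgroup.centralizer ({z} : Set G)),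
      φ l = (1, (q : P6)) ∧ Commute l aH := by
    let N : Subgroup A6 :=
      { carrier := {q | ∃ l : ↥(Subgroup.centralizer ({z} : Set G)), φ l = (1, (q : P6)) ∧ Commute l aH}
        one_mem' := ⟨1, by rw [map_one]; rfl, Commute.one_left _⟩
        mul_mem' := fun {q r} ⟨l1, h1, c1⟩ ⟨l2, h2, c2⟩ =>
          ⟨l1 * l2, by rw [map_mul, h1, h2]; exact Prod.ext (one_mul 1) rfl, c1.mul_left c2⟩
        inv_mem' := fun {q} ⟨l, h1, c1⟩ =>
          ⟨l⁻¹, by rw [map_inv, h1]; exact Prod.ext inv_one rfl, c1.inv_left⟩ }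
    have htop : commutator A6 ≤ N := by
      rw [commutator_def, Subgroup.commutator_le]
      intro q _ r _
      obtain ⟨l1, c1, h1, hc1, e1⟩ := hAut q (Equiv.Perm.mem_alternatingGroup.1 q.2)
      obtain ⟨l2, c2, h2, hc2, e2⟩ := hAut r (Equiv.Perm.mem_alternatingGroup.1 r.2)
      refine ⟨⁅l1, l2⁆, ?_, commutator_fix ?_ ?_ e1 e2⟩
      · rw [map_commutatorElement, h1, h2]
        exact Prod.ext (by simp [commutatorElement_def]) rfl
      · intro x; rcases hc1 with rfl | rfl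
        exacts [Commute.one_right x, zC_central x]
      · intro x; rcases hc2 with rfl | rfl
        exacts [Commute.one_right x, zC_central x]
    rw [commutator_alternatingGroup_eq_top (by simp)] at htop
    exact fun q => htop (Subgroup.mem_top q)
  -- such lifts preserve `Bs`
  have hBs : ∀ (q : P6) (l : ↥(Subgroup.centralizer ({z} : Set G))), IsLift φ q l → Commute l aH →
      ∀ y : ↥(Subgroup.centralizer ({z} : Set G)), (y : G) ∈ Bs →
        ((l * y * l⁻¹ : ↥(Subgroup.centralizer ({z} : Set G))) : G) ∈ Bs := by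
    intro q l hl hla y hy
    obtain ⟨hy1, hy2⟩ := (hmemBs _).1 hy
    refine (hmemBs _).2 ⟨K.coe_mem_AG.2 (K.ctx.norm_lift hl (K.coe_mem_AG.1 hy1)), ?_⟩
    have hla' : Commute (l : G) av := congrArg Subtype.val hla.eq
    have hmz : Commute (g'⁻¹ * (l : G) * g') z := by
      have := commute_conj_left (g := g'⁻¹) hla'
      rw [← hg'z, show g'⁻¹ * (g' * z * g'⁻¹) * g'⁻¹⁻¹ = z by group, inv_inv] at this
      exact this
    have hD6 : Dm (g'⁻¹ * ((l : G) * (g' * (g'⁻¹ * (y : G) * g') * g'⁻¹) * (l : G)⁻¹) * g') :=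
      hD4 _ (hDl q l hl _ (hD3 _ (hDA _ hy2)))
    have hQ6 : (g'⁻¹ * (l : G) * g') * (g'⁻¹ * (y : G) * g') * (g'⁻¹ * (l : G) * g')⁻¹ ∈ Q z :=
      K.glob.goodz.norm _ hmz.eq _ (K.AG_le hy2)
    rw [show (g'⁻¹ * (l : G) * g') * (g'⁻¹ * (y : G) * g') * (g'⁻¹ * (l : G) * g')⁻¹ =
      g'⁻¹ * ((l : G) * (g' * (g'⁻¹ * (y : G) * g') * g'⁻¹) * (l : G)⁻¹) * g' by group] at hQ6
    have := hDQ _ hD6 hQ6
    push_cast
    convert this using 1
    group
  -- the map `u`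
  let u : ↥(Subgroup.centralizer ({z} : Set G)) → ↥(Subgroup.centralizer ({z} : Set G)) :=
    fun x => ⁅aH⁻¹, x⁆
  have huA : ∀ x ∈ X, u x ∈ A := fun x hx => hIm ▸ K.ctx.base.mem_Im.2 ⟨x, hx, rfl⟩
  have hu0 : ∀ x ∈ X, pz (zC z) (u x) = 1 → x ∈ A := fun x hx h => by
    have hFx : x ∈ Fx (zC z) X aH⁻¹ := mem_Fx.2 ⟨hx, by
      simp only [u, commutatorElement_def, map_mul, map_inv, mul_inv_eq_one] at h
      simpa only [map_mul, map_inv] using h⟩
    rw [(K.ctx.sig _ hφinv).2] at hFx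
    exact hFx
  have hua : ∀ a ∈ A, u a = 1 := fun a ha =>
    commutatorElement_eq_one_iff_commute.2
      (Commute.inv_left (Subtype.ext (hav_comm _ (K.coe_mem_AG.2 ha)).eq))
  have hmul : ∀ x y, u (x * y) = u x * (x * u y * x⁻¹) := fun x y => by
    simp only [u, commutatorElement_def]; group
  have hpz : ∀ x ∈ X, ∀ y ∈ X, pz (zC z) (u (x * y)) = pz (zC z) (u x) * pz (zC z) (u y) :=
    fun x hx y hy => by
      rw [hmul, map_mul, map_mul, map_mul, map_inv,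
        (K.ctx.base.pz_comm hx (K.ctx.A_le (huA y hy))).eq, mul_inv_cancel_right]
  have heq : ∀ x ∈ X, ∀ x' ∈ X, pz (zC z) (u x) = pz (zC z) (u x') → u x = u x' := fun x hx x' hx' e => by
    have hy : x'⁻¹ * x ∈ X := mul_mem (inv_mem hx') hx
    have h := hpz x' hx' _ hy
    rw [mul_inv_cancel_left, e, left_eq_mul] at h
    conv_lhs => rw [show x = x' * (x'⁻¹ * x) by group, hmul, hua _ (hu0 _ hy h)]
    group
  have htr : ∀ x ∈ X, x ∉ A → ∀ x' ∈ X, x' ∉ A → (u x : G) ∈ Bs → (u x' : G) ∈ Bs := by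
    intro x hx hxA x' hx' hx'A hB
    obtain ⟨q1, h1, hl1, e1⟩ := K.ctx.trans (huA x hx) (fun e => hxA (hu0 x hx e))
    obtain ⟨q2, h2, hl2, e2⟩ := K.ctx.trans (huA x' hx') (fun e => hx'A (hu0 x' hx' e))
    have hsign : Perm.sign (q2 * q1⁻¹) = 1 := by simp [hl1.2, hl2.2]
    obtain ⟨l, hl, hla⟩ := hgoodlift ⟨q2 * q1⁻¹, Equiv.Perm.mem_alternatingGroup.2 hsign⟩
    have hconj : u (l * x * l⁻¹) = l * u x * l⁻¹ := by
      simp only [u]
      rw [show l * ⁅aH⁻¹, x⁆ * l⁻¹ = ⁅l * aH⁻¹ * l⁻¹, l * x * l⁻¹⁆ by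
        simp only [commutatorElement_def]; group, conj_eq_iff_comm.2 hla.inv_right.eq]
    have hp : pz (zC z) (u (l * x * l⁻¹)) = pz (zC z) (u x') := by
      rw [hconj, K.ctx.base.pz_conj_congr (f' := h2 * h1⁻¹) ?_ (K.ctx.A_le (huA x hx)), ← e1, ← e2]
      · congr 1; group
      · rw [hl, map_mul φ, map_inv φ, hl1.1, hl2.1]; exact Prod.ext (by simp) rfl
    rw [← heq _ (K.ctx.base.conj_mem l hx) x' hx' hp, hconj]
    exact hBs _ l ⟨hl, hsign⟩ hla _ hB
  obtain ⟨x0, hx0, hx0A⟩ : ∃ x0 ∈ X, x0 ∉ A := by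
    by_contra hcon
    push Not at hcon
    have := Subgroup.card_le_of_le (show X ≤ A from hcon)
    rw [K.ctx.base.card, K.ctx.card_A] at this
    omega
  have hzu : ∀ y ∈ X, ∀ x ∈ X, y * u x * y⁻¹ = u x ∨ y * u x * y⁻¹ = u x * zC z := fun y hy x hx =>
    K.ctx.base.good.comm y hy _ (K.ctx.A_le (huA x hx))
  by_cases hB0 : (u x0 : G) ∈ Bs
  · have hallB : ∀ x ∈ X, (u x : G) ∈ Bs := fun x hx => by
      by_cases hxA : x ∈ A
      · rw [hua x hxA]; exact one_mem Bs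
      · exact htr x0 hx0 hx0A x hx hxA hB0
    refine hx0A (hu0 x0 hx0 ?_)
    have hcen : ∀ y ∈ X, u x0 * y = y * u x0 := fun y hy => by
      rcases hzu y hy x0 hx0 with e | e
      · exact (conj_eq_iff_comm.1 e).symm
      · exfalso
        have h1 := hallB (y * x0) (mul_mem hy hx0)
        rw [hmul, e] at h1
        push_cast at h1
        have := mul_mem (inv_mem hB0) (mul_mem (inv_mem (hallB y hy)) h1)
        rw [inv_mul_cancel_left, inv_mul_cancel_left] at this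
        exact hzBs this
    rcases K.ctx.base.good.centre _ (K.ctx.A_le (huA x0 hx0)) hcen with e | e <;> rw [e]
    exacts [map_one _, pz_z]
  · have hnone : ∀ x ∈ X, x ∉ A → (u x : G) ∉ Bs := fun x hx hxA hB =>
      hB0 (htr x hx hxA x0 hx0 hx0A hB)
    have hzB' : ∀ x ∈ X, x ∉ A → (u x : G) * z ∈ Bs := fun x hx hxA =>
      (hcover _ (K.coe_mem_AG.2 (huA x hx))).resolve_left (hnone x hx hxA)
    have hnc : ∀ x' ∈ X, x' ∉ A → x0 * x' ∉ A → ¬ Commute x0 (u x') := by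
      intro x' hx' hx'A hxx hc
      refine hnone x' hx' hx'A ?_
      have h1 := hzB' _ (mul_mem hx0 hx') hxx
      rw [hmul, conj_eq_iff_comm.2 hc.eq] at h1
      push_cast at h1
      have h2 := mul_mem (inv_mem (hzB' x0 hx0 hx0A)) h1
      have hxz : Commute (u x' : G) z := K.AG_comm_z (K.coe_mem_AG.2 (huA x' hx'))
      rw [mul_inv_rev, mul_assoc (u x0 : G), mul_assoc, inv_mul_cancel_left, hxz.eq,
        inv_mul_cancel_left] at h2
      exact h2
    let E : Set ↥(Subgroup.centralizer ({z} : Set G)) :=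
      (A : Set ↥(Subgroup.centralizer ({z} : Set G))) ∪ (x0 * ·) '' (A : Set ↥(Subgroup.centralizer ({z} : Set G)))
    have hmemE : ∀ y ∈ X, y ∉ E → y ∉ A ∧ x0 * y ∉ A := by
      intro y hy hyE
      refine ⟨fun h => hyE (Or.inl h), fun h => hyE (Or.inr ⟨x0⁻¹ * y, ?_, by group⟩)⟩
      rcases K.ctx.base.good.sq_cases hx0 with e | e
      · rwa [inv_eq_of_mul_eq_one_right e]
      · have := mul_mem (inv_mem K.ctx.z_mem) h
        rwa [show (zC z)⁻¹ * (x0 * y) = x0⁻¹ * y by rw [← e]; group] at this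
    have hcardA : (A : Set ↥(Subgroup.centralizer ({z} : Set G))).ncard = 32 := by
      rw [← Nat.card_coe_set_eq]; exact K.ctx.card_A
    have hE : E.ncard ≤ 64 := by
      refine (Set.ncard_union_le _ _).trans ?_
      rw [Set.ncard_image_of_injective _ (mul_right_injective x0), hcardA]
    have hX512 : (X : Set ↥(Subgroup.centralizer ({z} : Set G))).ncard = 512 := by
      rw [← Nat.card_coe_set_eq]; exact K.ctx.base.card
    obtain ⟨y, hy, hyE⟩ : ∃ y ∈ X, y ∉ E := by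
      by_contra hcon
      push Not at hcon
      have := Set.ncard_le_ncard (show (X : Set ↥(Subgroup.centralizer ({z} : Set G))) ⊆ E from hcon) (Set.toFinite _)
      omega
    obtain ⟨y', hy', hy'E⟩ : ∃ y' ∈ X, y' ∉ E ∪ (y⁻¹ * ·) '' E := by
      by_contra hcon
      push Not at hcon
      have := Set.ncard_le_ncard (show (X : Set ↥(Subgroup.centralizer ({z} : Set G))) ⊆ E ∪ (y⁻¹ * ·) '' E from hcon) (Set.toFinite _)
      have h2 := Set.ncard_union_le E ((y⁻¹ * ·) '' E)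
      rw [Set.ncard_image_of_injective _ (mul_right_injective _)] at h2
      omega
    have hyy : y * y' ∉ E := fun h => hy'E (Or.inr ⟨y * y', h, by group⟩)
    have n1 := hnc y hy (hmemE y hy hyE).1 (hmemE y hy hyE).2
    have n2 := hnc y' hy' (hmemE y' hy' fun h => hy'E (Or.inl h)).1
      (hmemE y' hy' fun h => hy'E (Or.inl h)).2
    have hyy' := mul_mem hy hy'
    have n3 := hnc (y * y') hyy' (hmemE _ hyy' hyy).1 (hmemE _ hyy' hyy).2
    refine n3 (Commute.symm ?_)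
    have h1 := hpz y hy y' hy'
    rw [← map_mul] at h1
    refine (K.ctx.base.commute_congr h1).2 ?_
    have hX' : ∀ x ∈ X, u x ∈ X := fun x hx => K.ctx.A_le (huA x hx)
    have := K.ctx.base.commute_div (hX' y hy) (inv_mem (hX' y' hy')) hx0
      (iff_of_false (fun h => n1 h.symm) fun h => n2 (by simpa using h.inv_left.symm))
    rwa [inv_inv] at this

end GCtx

end Cfsg.Agent.Lib.LargeNine45
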