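import Cfsg.Agent.Lib.LargeNine45.Glob

/-!
An element exchanging `z` and `v`, acting on the subgroups attached to `v` (helper45).
-/

set_option autoImplicit false

namespace Cfsg.Agent.Lib.LargeNine45

open Equiv LargeExtra
open scoped commutatorElement

variable {G : Type*} [Group G] [Finite G] {Q : G → Subgroup G} {z : G}
  {φ : ↥(Subgroup.centralizer ({z} : Set G)) →* T}
  {v D : ↥(Subgroup.centralizer ({z} : Set G))} {s : P3}
  {A : Subgroup ↥(Subgroup.centralizer ({z} : Set G))}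

/-- The hypotheses at a conjugate `v`. -/
structure GCtx (Q : G → Subgroup G) (z : G) (φ : ↥(Subgroup.centralizer ({z} : Set G)) →* T)
    (v : ↥(Subgroup.centralizer ({z} : Set G))) (s : P3)
    (A : Subgroup ↥(Subgroup.centralizer ({z} : Set G)))
    (D : ↥(Subgroup.centralizer ({z} : Set G))) : Prop where
  glob : Glob Q z φ
  ctx : AxisFrame ((Q z).subgroupOf (Subgroup.centralizer ({z} : Set G))) (zC z) φ (Mem Q z) (Tr Q z) v s A D

/-- `g` exchanges `z` and `v`. -/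
def IsSwap (z v g : G) : Prop := g * v * g⁻¹ = z ∧ g * z * g⁻¹ = v

theorem IsSwap.inv {z v g : G} (h : IsSwap z v g) : IsSwap z v g⁻¹ := by
  constructor
  · rw [inv_inv, ← h.2]; group
  · rw [inv_inv, ← h.1]; group

/-- Conjugation sends commuting pairs to commuting pairs. -/
theorem commute_conj_left {a b g : G} (h : Commute a b) :
    Commute (g * a * g⁻¹) (g * b * g⁻¹) := (Commute.conj_iff g).2 h

namespace GCtx

/-- `A` inside `G`. -/
def AG (K : GCtx Q z φ v s A D) : Subgroup G :=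
  A.map (Subgroup.centralizer ({z} : Set G)).subtype

/-- `A ∩ Q v` inside `G`. -/
def LG (K : GCtx Q z φ v s A D) : Subgroup G :=
  (A ⊓ Tr Q z v).map (Subgroup.centralizer ({z} : Set G)).subtype

theorem coe_mem_AG (K : GCtx Q z φ v s A D) {a : ↥(Subgroup.centralizer ({z} : Set G))} :
    (a : G) ∈ K.AG ↔ a ∈ A :=
  ⟨fun ⟨b, hb, e⟩ => Subtype.ext e ▸ hb, fun h => ⟨a, h, rfl⟩⟩

theorem coe_mem_LG (K : GCtx Q z φ v s A D) {a : ↥(Subgroup.centralizer ({z} : Set G))} :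
    (a : G) ∈ K.LG ↔ a ∈ A ⊓ Tr Q z v :=
  ⟨fun ⟨b, hb, e⟩ => Subtype.ext e ▸ hb, fun h => ⟨a, h, rfl⟩⟩

theorem AG_comm_z (K : GCtx Q z φ v s A D) {a : G} (ha : a ∈ K.AG) : Commute a z := by
  obtain ⟨b, -, rfl⟩ := ha
  exact Subgroup.mem_centralizer_singleton_iff.1 b.2

theorem AG_le (K : GCtx Q z φ v s A D) {a : G} (ha : a ∈ K.AG) : a ∈ Q z := by
  obtain ⟨b, hb, rfl⟩ := ha
  exact K.ctx.A_le hb

theorem AG_comm (K : GCtx Q z φ v s A D) {a b : G} (ha : a ∈ K.AG) (hb : b ∈ K.AG) : Commute a b := by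
  obtain ⟨a', ha', rfl⟩ := ha
  obtain ⟨b', hb', rfl⟩ := hb
  exact (K.ctx.comm_A ha' hb').map (Subgroup.centralizer ({z} : Set G)).subtype

theorem v_mem_AG (K : GCtx Q z φ v s A D) : (v : G) ∈ K.AG := K.coe_mem_AG.2 K.ctx.v_mem

theorem z_mem_AG (K : GCtx Q z φ v s A D) : z ∈ K.AG := ⟨zC z, K.ctx.z_mem, rfl⟩

theorem mem_LG_iff (K : GCtx Q z φ v s A D) {a : G} :
    a ∈ K.LG ↔ a ∈ K.AG ∧ a ∈ Q (v : G) := by
  constructor
  · rintro ⟨b, ⟨hb1, hb2⟩, rfl⟩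
    exact ⟨⟨b, hb1, rfl⟩, hb2⟩
  · rintro ⟨⟨b, hb, rfl⟩, hq⟩
    exact ⟨b, ⟨hb, hq⟩, rfl⟩

theorem z_mem_LG (K : GCtx Q z φ v s A D) : z ∈ K.LG :=
  K.mem_LG_iff.2 ⟨K.z_mem_AG, K.ctx.pair.zS⟩

theorem v_mem_LG (K : GCtx Q z φ v s A D) : (v : G) ∈ K.LG :=
  K.mem_LG_iff.2 ⟨K.v_mem_AG, K.ctx.pair.vS⟩

theorem card_AG (K : GCtx Q z φ v s A D) : Nat.card K.AG = 32 := by
  show Nat.card ↥(A.map (Subgroup.centralizer ({z} : Set G)).subtype) = 32
  rw [Subgroup.card_map_of_injective (Subgroup.subtype_injective _), K.ctx.card_A]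

theorem card_LG (K : GCtx Q z φ v s A D) : Nat.card K.LG = 16 := by
  show Nat.card ↥((A ⊓ Tr Q z v).map (Subgroup.centralizer ({z} : Set G)).subtype) = 16
  rw [Subgroup.card_map_of_injective (Subgroup.subtype_injective _), K.ctx.card_L]

theorem coset (K : GCtx Q z φ v s A D) {x y : G} (hx : x ∈ K.AG) (hx' : x ∉ K.LG) (hy : y ∈ K.AG)
    (hy' : y ∉ K.LG) : x⁻¹ * y ∈ K.LG := by
  let N := K.LG.subgroupOf K.AG
  have hle : K.LG ≤ K.AG := fun a ha => (K.mem_LG_iff.1 ha).1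
  have hindex : N.index = 2 := by
    have := N.card_mul_index
    rw [Nat.card_congr (Subgroup.subgroupOfEquivOfLe hle).toEquiv, K.card_LG, K.card_AG] at this
    omega
  exact (Subgroup.mul_mem_iff_of_index_two hindex (a := (⟨x, hx⟩ : K.AG)⁻¹) (b := ⟨y, hy⟩)).2
    (iff_of_false (fun h => hx' (by simpa [N, Subgroup.mem_subgroupOf] using inv_mem h)) hy')

/-- The normaliser property. -/
theorem norm (K : GCtx Q z φ v s A D) {h a : G} (hz : Commute h z) (hv : Commute h (v : G))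
    (ha : a ∈ K.AG) : h * a * h⁻¹ ∈ K.AG := by
  obtain ⟨b, hb, rfl⟩ := ha
  exact ⟨_, K.ctx.norm_of_commute (h := ⟨h, Subgroup.mem_centralizer_singleton_iff.2 hz⟩)
    (Subtype.ext hv) hb, rfl⟩

theorem norm_LG (K : GCtx Q z φ v s A D) {h a : G} (hz : Commute h z) (hv : Commute h (v : G))
    (ha : a ∈ K.LG) : h * a * h⁻¹ ∈ K.LG := by
  obtain ⟨b, hb, rfl⟩ := ha
  exact ⟨_, ⟨K.ctx.norm_of_commute (h := ⟨h, Subgroup.mem_centralizer_singleton_iff.2 hz⟩)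
    (Subtype.ext hv) hb.1, K.ctx.pair.norm ⟨h, Subgroup.mem_centralizer_singleton_iff.2 hz⟩
    (Subtype.ext hv) _ hb.2⟩, rfl⟩

variable {g : G}

theorem swap_z_v (K : GCtx Q z φ v s A D) (hg : IsSwap z (v : G) g) {x : G} (hx : x ∈ Q z) :
    g * x * g⁻¹ ∈ Q (v : G) := hg.2 ▸ K.glob.core.conj_mem g hx

theorem swap_v_z (K : GCtx Q z φ v s A D) (hg : IsSwap z (v : G) g) {x : G} (hx : x ∈ Q (v : G)) :
    g * x * g⁻¹ ∈ Q z := by
  have := K.glob.core.conj_mem g hx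
  rwa [hg.1] at this

theorem AV_comm_z (K : GCtx Q z φ v s A D) (hg : IsSwap z (v : G) g) {a : G} (ha : a ∈ K.AG) :
    Commute (g * a * g⁻¹) z := by
  have := commute_conj_left (g := g) (K.AG_comm ha K.v_mem_AG)
  rwa [hg.1] at this

theorem AV_comm_v (K : GCtx Q z φ v s A D) (hg : IsSwap z (v : G) g) {a : G} (ha : a ∈ K.AG) :
    Commute (g * a * g⁻¹) (v : G) := by
  have := commute_conj_left (g := g) (K.AG_comm_z ha)
  rwa [hg.2] at this

/-- `g` fixes `A ∩ Q v`. -/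
theorem swap_LG (K : GCtx Q z φ v s A D) (hg : IsSwap z (v : G) g) {l : G} (hl : l ∈ K.LG) :
    g * l * g⁻¹ ∈ K.LG := by
  obtain ⟨e, he⟩ := K.ctx.exists_isE
  have hev : Commute (e : G) (v : G) := congrArg Subtype.val he.2.1.eq
  have hez : Commute (e : G) z := Subgroup.mem_centralizer_singleton_iff.1 e.2
  have h1 : Commute (g * e * g⁻¹) z := by
    have := commute_conj_left (g := g) hev
    rwa [hg.1] at this
  have h2 : Commute (g * e * g⁻¹) (v : G) := by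
    have := commute_conj_left (g := g) hez
    rwa [hg.2] at this
  let e' : ↥(Subgroup.centralizer ({z} : Set G)) :=
    ⟨g * e * g⁻¹, Subgroup.mem_centralizer_singleton_iff.2 h1⟩
  have he3 : (e : G) ^ 3 = 1 := congrArg Subtype.val he.1
  have he' : IsE ((Q z).subgroupOf (Subgroup.centralizer ({z} : Set G))) v e' := by
    refine ⟨Subtype.ext ?_, Subtype.ext h2, fun hX => he.2.2 ?_⟩
    · show (g * e * g⁻¹) ^ 3 = 1
      rw [conj_pow, he3, mul_one, mul_inv_cancel]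
    · obtain ⟨k, hk⟩ := (K.glob.core.isPGroup z) ⟨g * e * g⁻¹, hX⟩
      have hk' : (g * (e : G) * g⁻¹) ^ 2 ^ k = 1 := congrArg Subtype.val hk
      rw [conj_pow, mul_inv_eq_one, mul_eq_left] at hk'
      have hone : (e : G) = 1 := by
        have hd : orderOf (e : G) ∣ Nat.gcd 3 (2 ^ k) :=
          Nat.dvd_gcd (orderOf_dvd_of_pow_eq_one he3) (orderOf_dvd_of_pow_eq_one hk')
        rw [Nat.Coprime.gcd_eq_one (Nat.Coprime.pow_right k (by norm_num)), Nat.dvd_one] at hd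
        exact orderOf_eq_one_iff.1 hd
      rw [show e = 1 from Subtype.ext hone]
      exact one_mem _
  let W : Subgroup ↥(Subgroup.centralizer ({z} : Set G)) :=
    (K.LG.comap (MulAut.conj g).toMonoidHom).subgroupOf (Subgroup.centralizer ({z} : Set G))
  have hW : A ⊓ Tr Q z v ≤ W := by
    refine K.ctx.gen he W ?_ ?_ fun i hi => ?_
    · show g * z * g⁻¹ ∈ K.LG
      rw [hg.2]; exact K.v_mem_LG
    · show g * (v : G) * g⁻¹ ∈ K.LG
      rw [hg.1]; exact K.z_mem_LG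
    · show g * ((⁅e, i⁆ : ↥(Subgroup.centralizer ({z} : Set G))) : G) * g⁻¹ ∈ K.LG
      have hiv : g * (i : G) * g⁻¹ ∈ Q z := K.swap_v_z hg hi.2
      let i' : ↥(Subgroup.centralizer ({z} : Set G)) :=
        ⟨g * i * g⁻¹, Subgroup.mem_centralizer_singleton_iff.2 (K.glob.goodz.le_cent _ hiv)⟩
      have hi' : i' ∈ (Q z).subgroupOf (Subgroup.centralizer ({z} : Set G)) ⊓ Tr Q z v :=
        ⟨hiv, K.swap_z_v hg hi.1⟩
      have := K.coe_mem_LG.2 (K.ctx.comm_mem_of_I he' hi')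
      simp only [commutatorElement_def, Subgroup.coe_mul, Subgroup.coe_inv, e', i'] at this ⊢
      convert this using 1
      group
  obtain ⟨b, hb, rfl⟩ := hl
  exact hW hb

theorem swap_AV (K : GCtx Q z φ v s A D) (hg : IsSwap z (v : G) g) {a : G} (ha : a ∈ K.AG) :
    g * (g * a * g⁻¹) * g⁻¹ ∈ K.AG := by
  rw [show g * (g * a * g⁻¹) * g⁻¹ = g * g * a * (g * g)⁻¹ by group]
  refine K.norm ?_ ?_ ha
  · refine mul_inv_eq_iff_eq_mul.1 ?_
    calc g * g * z * (g * g)⁻¹ = g * (g * z * g⁻¹) * g⁻¹ := by group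
      _ = z := by rw [hg.2, hg.1]
  · refine mul_inv_eq_iff_eq_mul.1 ?_
    calc g * g * (v : G) * (g * g)⁻¹ = g * (g * v * g⁻¹) * g⁻¹ := by group
      _ = v := by rw [hg.1, hg.2]

/-- Conjugates of `A` by `g` lie outside `Q z`, apart from `A ∩ Q v`. -/
theorem AV_notMem (K : GCtx Q z φ v s A D) (hg : IsSwap z (v : G) g) {a : G} (ha : a ∈ K.AG)
    (haL : a ∉ K.LG) : g * a * g⁻¹ ∉ Q z := fun h => haL (K.mem_LG_iff.2 ⟨ha, by
  have := K.swap_z_v hg.inv h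
  rwa [show g⁻¹ * (g * a * g⁻¹) * g⁻¹⁻¹ = a by group] at this⟩)

theorem AV_norm (K : GCtx Q z φ v s A D) (hg : IsSwap z (v : G) g) {h a : G} (hz : Commute h z)
    (hv : Commute h (v : G)) (ha : a ∈ K.AG) :
    ∃ b ∈ K.AG, h * (g * a * g⁻¹) * h⁻¹ = g * b * g⁻¹ := by
  refine ⟨g⁻¹ * h * g * a * (g⁻¹ * h * g)⁻¹, K.norm ?_ ?_ ha, by group⟩
  · have := commute_conj_left (g := g⁻¹) hv
    rw [hg.inv.1] at this
    simpa using this
  · have := commute_conj_left (g := g⁻¹) hz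
    rw [hg.inv.2] at this
    simpa using this

theorem comm_mem_LG (K : GCtx Q z φ v s A D) (hg : IsSwap z (v : G) g) {x a : G} (hx : x ∈ K.AG)
    (ha : a ∈ K.AG) : ⁅x, g * a * g⁻¹⁆ ∈ K.LG := by
  refine K.mem_LG_iff.2 ⟨?_, ?_⟩
  · rw [commutatorElement_def, show x * (g * a * g⁻¹) * x⁻¹ * (g * a * g⁻¹)⁻¹ =
      x * ((g * a * g⁻¹) * x⁻¹ * (g * a * g⁻¹)⁻¹) by group]
    exact mul_mem hx (K.norm (K.AV_comm_z hg ha) (K.AV_comm_v hg ha) (inv_mem hx))
  · obtain ⟨b, hb, e⟩ := K.AV_norm hg (h := x) (K.AG_comm_z hx) (K.AG_comm hx K.v_mem_AG) ha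
    rw [commutatorElement_def, e]
    exact mul_mem (K.swap_z_v hg (K.AG_le hb)) (inv_mem (K.swap_z_v hg (K.AG_le ha)))

theorem trans (K : GCtx Q z φ v s A D) {a : G} (ha : a ∈ K.AG) (h1 : a ≠ 1) (h2 : a ≠ z) :
    ∃ q h, IsLift φ q h ∧ (h : G) * v * (h : G)⁻¹ = a := by
  obtain ⟨b, hb, rfl⟩ := ha
  obtain ⟨q, h, hl, e⟩ := K.ctx.trans hb fun e => by
    rcases eq_or_of_mem_zpowers K.ctx.base.good.x_sq (pz_eq_one_iff.1 e) with r | r
    · exact h1 (congrArg Subtype.val r)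
    · exact h2 (congrArg Subtype.val r)
  exact ⟨q, h, hl, congrArg Subtype.val e⟩

end GCtx

theorem exists_swap (K : GCtx Q z φ v s A D) : ∃ g, IsSwap z (v : G) g := by
  obtain ⟨⟨g0, hg0⟩, hvQ, hvz⟩ := K.ctx.hv
  have hzQ : z ∈ Q (g0 * z * g0⁻¹) := K.glob.mem_Q_symm (hg0 ▸ hvQ)
  have hw : g0⁻¹ * z * g0 ∈ Q z := by
    have := K.glob.core.conj_mem g0⁻¹ hzQ
    simpa [mul_assoc] using this
  let w : ↥(Subgroup.centralizer ({z} : Set G)) :=
    ⟨g0⁻¹ * z * g0, Subgroup.mem_centralizer_singleton_iff.2 (K.glob.goodz.le_cent _ hw)⟩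
  have hC : Mem Q z w := ⟨⟨g0⁻¹, by simp [w]⟩, hw, fun e => hvz (by
    rw [← hg0]
    refine mul_inv_eq_iff_eq_mul.2 ?_
    calc g0 * z = g0 * (g0⁻¹ * z * g0) := by rw [show g0⁻¹ * z * g0 = z from e]
      _ = z * g0 := by group)⟩
  obtain ⟨h, hh⟩ := K.ctx.conj_form hC
  have hh' : (h : G) * v * (h : G)⁻¹ = g0⁻¹ * z * g0 := congrArg Subtype.val hh
  have hhz : (h : G) * z = z * h := Subgroup.mem_centralizer_singleton_iff.1 h.2
  refine ⟨g0 * h, ?_, ?_⟩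
  · calc g0 * h * (v : G) * (g0 * h)⁻¹ = g0 * ((h : G) * v * (h : G)⁻¹) * g0⁻¹ := by group
      _ = z := by rw [hh']; group
  · calc g0 * h * z * (g0 * h)⁻¹ = g0 * ((h : G) * z * (h : G)⁻¹) * g0⁻¹ := by group
      _ = v := by rw [hhz, mul_inv_cancel_right, hg0]

end Cfsg.Agent.Lib.LargeNine45
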