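import Cfsg.Agent.Lib.LargeNine45.Swap

/-!
The case that `A` and `g A g⁻¹` do not commute modulo `⟨z⟩` is impossible (helper45).
-/

set_option autoImplicit false

namespace Cfsg.Agent.Lib.LargeNine45

open Equiv LargeExtra
open scoped commutatorElement

variable {G : Type*} [Group G] [Finite G] {Q : G → Subgroup G} {z : G}
  {φ : ↥(Subgroup.centralizer ({z} : Set G)) →* T}
  {v D : ↥(Subgroup.centralizer ({z} : Set G))} {s : P3}
  {A : Subgroup ↥(Subgroup.centralizer ({z} : Set G))}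

namespace GCtx

variable {g : G}

/-- No conjugate of `v` other than `v` has the same trace on `A`. -/
theorem exists_outside (K : GCtx Q z φ v s A D) {h0 : ↥(Subgroup.centralizer ({z} : Set G))} {q0 : P6}
    (hl0 : IsLift φ q0 h0) (hb : pz (zC z) (h0 * v * h0⁻¹) ≠ pz (zC z) v) :
    ∃ l ∈ A ⊓ Tr Q z v, h0 * l * h0⁻¹ ∉ A ⊓ Tr Q z v := by
  by_contra hall
  push Not at hall
  set L := A ⊓ Tr Q z v with hL
  let X := (Q z).subgroupOf (Subgroup.centralizer ({z} : Set G))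
  -- conjugation by elements of `X` preserves `L`
  have hXL : ∀ x ∈ X, ∀ a ∈ L, x * a * x⁻¹ ∈ L := by
    intro x hx a ha
    rcases K.ctx.base.good.comm x hx a (K.ctx.A_le ha.1) with e | e <;> rw [e]
    exacts [ha, mul_mem ha ⟨K.ctx.z_mem, K.ctx.pair.zS⟩]
  have hXeq : ∀ l l', φ l = φ l' → (∀ a ∈ L, l * a * l⁻¹ ∈ L) → ∀ a ∈ L, l' * a * l'⁻¹ ∈ L := by
    intro l l' e hl a ha
    have := hl _ (hXL _ (K.ctx.base.div_mem e) a ha)
    rwa [show l * (l⁻¹ * l' * a * (l⁻¹ * l')⁻¹) * l⁻¹ = l' * a * l'⁻¹ by group] at this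
  let P : A6 → Prop := fun q => ∀ l, φ l = (1, (q : P6)) → ∀ a ∈ L, l * a * l⁻¹ ∈ L
  have hone : P 1 := fun l hl a ha => hXeq 1 l (by rw [map_one, hl]; rfl)
    (fun a ha => by simpa using ha) a ha
  have hmul : ∀ q r, P q → P r → P (q * r) := by
    intro q r hq hr l hl a ha
    obtain ⟨l1, h1⟩ := K.ctx.base.surjA q (Equiv.Perm.mem_alternatingGroup.1 q.2)
    obtain ⟨l2, h2⟩ := K.ctx.base.surjA r (Equiv.Perm.mem_alternatingGroup.1 r.2)
    refine hXeq (l1 * l2) l (by rw [map_mul, h1, h2, hl]; exact Prod.ext (one_mul 1) rfl)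
      (fun a ha => ?_) a ha
    have := hq l1 h1 _ (hr l2 h2 a ha)
    rwa [show l1 * l2 * a * (l1 * l2)⁻¹ = l1 * (l2 * a * l2⁻¹) * l1⁻¹ by group]
  let N : Subgroup A6 :=
    { carrier := {q | P q}
      one_mem' := hone
      mul_mem' := fun {q r} hq hr => hmul q r hq hr
      inv_mem' := fun {q} hq => by
        have hpow : ∀ n : ℕ, P (q ^ n) := fun n => by
          induction n with
          | zero => simpa using hone
          | succ n ih => rw [pow_succ]; exact hmul _ _ ih hq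
        have e : q⁻¹ = q ^ (orderOf q - 1) := by
          refine inv_eq_of_mul_eq_one_right ?_
          rw [← pow_succ', Nat.sub_add_cancel (orderOf_pos q), pow_orderOf_eq_one]
        show P q⁻¹
        rw [e]; exact hpow _ }
  obtain ⟨W, hW, hiff⟩ := K.ctx.stab
  have hWN : W ≤ N := fun q hq l hl => by
    obtain ⟨l', hφ, hv'⟩ := K.ctx.base.exists_fix K.ctx.pair.vX K.ctx.pair.pv ((hiff q l hl).1 hq)
    have hc : Commute l' v := conj_eq_iff_comm.1 hv'
    exact hXeq l' l hφ fun a ha => ⟨K.ctx.norm_of_commute hc ha.1, K.ctx.pair.norm l' hc a ha.2⟩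
  let q0' : A6 := ⟨q0, Equiv.Perm.mem_alternatingGroup.2 hl0.2⟩
  have hq0 : q0' ∈ N := fun l hl => hXeq h0 l (hl0.1.trans hl.symm) hall
  have hq0W : q0' ∉ W := fun h => hb ((hiff q0' h0 hl0.1).1 h)
  have hlt : Nat.card W < Nat.card N := by
    by_contra hle
    exact hq0W (Subgroup.eq_of_le_of_card_ge hWN (Nat.le_of_not_lt hle) ▸ hq0)
  obtain ⟨k, hk⟩ := Subgroup.card_dvd_of_le hWN
  have hidx := N.card_mul_index
  rw [card_A6, hk, hW] at hidx
  rw [hk, hW] at hlt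
  have hk2 : 2 ≤ k := by omega
  have h15 : k * N.index = 15 := by
    rw [mul_assoc] at hidx; omega
  have hidx5 : N.index ≤ 5 := by
    have hd : N.index ∣ 15 := ⟨k, by rw [← h15, mul_comm]⟩
    have h8 : N.index ≤ 7 := by
      have := Nat.mul_le_mul hk2 (le_refl N.index)
      omega
    rcases Nat.eq_zero_or_pos N.index with h0 | hpos
    · omega
    interval_cases N.index <;> omega
  have htop := A6_eq_top_of_index N hidx5
  have hAL : A ≤ L := by
    intro a ha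
    by_cases ha1 : pz (zC z) a = 1
    · rcases eq_or_of_mem_zpowers K.ctx.base.good.x_sq (pz_eq_one_iff.1 ha1) with rfl | rfl
      exacts [one_mem _, ⟨K.ctx.z_mem, K.ctx.pair.zS⟩]
    obtain ⟨q, h, hl, rfl⟩ := K.ctx.trans ha ha1
    have hqN : (⟨q, Equiv.Perm.mem_alternatingGroup.2 hl.2⟩ : A6) ∈ N := htop ▸ Subgroup.mem_top _
    exact hqN h hl.1 v ⟨K.ctx.v_mem, K.ctx.pair.vS⟩
  have := Subgroup.card_le_of_le hAL
  rw [hL, K.ctx.card_A, K.ctx.card_L] at this
  omega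

theorem false_twisted (K : GCtx Q z φ v s A D) (hg : IsSwap z (v : G) g) {x a : G} (hx : x ∈ K.AG)
    (ha : a ∈ K.AG) (hne1 : ⁅x, g * a * g⁻¹⁆ ≠ 1) (hnez : ⁅x, g * a * g⁻¹⁆ ≠ z) : False := by
  have hxL : x ∉ K.LG := fun h => by
    have h' := K.swap_LG hg.inv h
    refine hne1 (commutatorElement_eq_one_iff_commute.2 ?_)
    have := commute_conj_left (g := g) (K.AG_comm (K.mem_LG_iff.1 h').1 ha)
    rwa [show g * (g⁻¹ * x * g⁻¹⁻¹) * g⁻¹ = x by group] at this
  have haL : a ∉ K.LG := fun h =>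
    hne1 (commutatorElement_eq_one_iff_commute.2 (K.AG_comm hx (K.mem_LG_iff.1 (K.swap_LG hg h)).1))
  set w := ⁅x, g * a * g⁻¹⁆ with hw
  have hwL : w ∈ K.LG := K.comm_mem_LG hg hx ha
  -- the commutator is constant
  have hconst : ∀ x2 ∈ K.AG, x2 ∉ K.LG → ∀ a2 ∈ K.AG, a2 ∉ K.LG → ⁅x2, g * a2 * g⁻¹⁆ = w := by
    intro x2 hx2 hx2L a2 ha2 ha2L
    have hb := K.coset hx hxL hx2 hx2L
    have hc := K.coset ha haL ha2 ha2L
    have e1 : Commute (x⁻¹ * x2) (g * a2 * g⁻¹) := by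
      have h' := K.swap_LG hg.inv hb
      have := commute_conj_left (g := g) (K.AG_comm (K.mem_LG_iff.1 h').1 ha2)
      rwa [show g * (g⁻¹ * (x⁻¹ * x2) * g⁻¹⁻¹) * g⁻¹ = x⁻¹ * x2 by group] at this
    have e2 : Commute x (g * (a⁻¹ * a2) * g⁻¹) :=
      K.AG_comm hx (K.mem_LG_iff.1 (K.swap_LG hg hc)).1
    calc ⁅x2, g * a2 * g⁻¹⁆ = x * ⁅x⁻¹ * x2, g * a2 * g⁻¹⁆ * x⁻¹ * ⁅x, g * a2 * g⁻¹⁆ := by
          simp only [commutatorElement_def]; group
      _ = ⁅x, g * a2 * g⁻¹⁆ := by rw [commutatorElement_eq_one_iff_commute.2 e1]; group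
      _ = ⁅x, g * a * g⁻¹⁆ * (g * a * g⁻¹ * ⁅x, g * (a⁻¹ * a2) * g⁻¹⁆ * (g * a * g⁻¹)⁻¹) := by
          simp only [commutatorElement_def]; group
      _ = w := by rw [commutatorElement_eq_one_iff_commute.2 e2]; rw [hw]; group
  -- it is fixed by an element of order three
  obtain ⟨e, he⟩ := K.ctx.exists_isE
  have hez : Commute (e : G) z := Subgroup.mem_centralizer_singleton_iff.1 e.2
  have hev : Commute (e : G) (v : G) := congrArg Subtype.val he.2.1.eq
  have hout : ∀ (h : G), Commute h z → Commute h (v : G) → ∀ y ∈ K.AG, y ∉ K.LG →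
      h * y * h⁻¹ ∉ K.LG := fun h hz hv y _ hy hh => hy (by
    have := K.norm_LG hz.inv_left hv.inv_left hh
    rwa [show h⁻¹ * (h * y * h⁻¹) * h⁻¹⁻¹ = y by group] at this)
  have hew : (e : G) * w * (e : G)⁻¹ = w := by
    obtain ⟨b, hb, eb⟩ := K.AV_norm hg hez hev ha
    have hbL : b ∉ K.LG := fun h => haL (by
      have hh := K.norm_LG hez.inv_left hev.inv_left (K.swap_LG hg h)
      rw [← eb, show (e : G)⁻¹ * ((e : G) * (g * a * g⁻¹) * (e : G)⁻¹) * (e : G)⁻¹⁻¹ = g * a * g⁻¹ by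
        group] at hh
      have := K.swap_LG hg.inv hh
      rwa [show g⁻¹ * (g * a * g⁻¹) * g⁻¹⁻¹ = a by group] at this)
    calc (e : G) * w * (e : G)⁻¹ = ⁅(e : G) * x * (e : G)⁻¹, (e : G) * (g * a * g⁻¹) * (e : G)⁻¹⁆ := by
          rw [hw]; simp only [commutatorElement_def]; group
      _ = w := by rw [eb]; exact hconst _ (K.norm hez hev hx) (hout _ hez hev x hx hxL) b hb hbL
  obtain ⟨w', hw', hww'⟩ := hwL
  have hpw : pz (zC z) w' = pz (zC z) v := by
    refine (K.ctx.fixed he hw' (congrArg _ (Subtype.ext ?_))).resolve_left fun h => ?_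
    · show (e : G) * (w' : G) * (e : G)⁻¹ = w'
      rw [show (w' : G) = w from hww', hew]
    · rcases eq_or_of_mem_zpowers K.ctx.base.good.x_sq (pz_eq_one_iff.1 h) with r | r
      · exact hne1 (by rw [← hww', r]; rfl)
      · exact hnez (by rw [← hww', r]; rfl)
  -- `a` is conjugate to `v`
  obtain ⟨q, h, hl, hh⟩ := K.trans ha (fun e => haL (e ▸ one_mem _)) (fun e => haL (e ▸ K.z_mem_LG))
  have hwQ : ∀ l ∈ A ⊓ Tr Q z v, g * ((h : G) * l * (h : G)⁻¹) * g⁻¹ ∈ Q (g * a * g⁻¹) := by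
    intro l hl'
    refine K.glob.core.conj_mem g ?_
    rw [← hh]
    exact K.glob.core.conj_mem (h : G) hl'.2
  have hmemAG : ∀ l ∈ A ⊓ Tr Q z v, (h : G) * l * (h : G)⁻¹ ∈ K.AG := fun l hl' =>
    ⟨h * l * h⁻¹, K.ctx.norm_lift hl hl'.1, rfl⟩
  -- some element of `A ∩ Q v` outside `⟨z, v⟩` is orthogonal to `g a g⁻¹`
  obtain ⟨b0, hb0, hb0Q, hb01, hb0v⟩ : ∃ b0 ∈ A ⊓ Tr Q z v,
      (b0 : G) ∈ Q (g * a * g⁻¹) ∧ pz (zC z) b0 ≠ 1 ∧ pz (zC z) b0 ≠ pz (zC z) v := by
    by_contra hcon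
    push Not at hcon
    let L := A ⊓ Tr Q z v
    let F : ↥L → G := fun l => g * ((h : G) * (l : ↥(Subgroup.centralizer ({z} : Set G))) * (h : G)⁻¹) * g⁻¹
    have hF : Function.Injective F := fun a b e =>
      Subtype.ext (Subtype.ext (mul_left_cancel (mul_right_cancel (mul_left_cancel (mul_right_cancel e)))))
    have hsmall : ∀ l : ↥L, F l ∈ K.LG →
        F l ∈ ({1, z, (v : G), (v : G) * z} : Set G) := by
      intro l hlL
      obtain ⟨b, hb, hbe⟩ := hlL
      rw [← hbe]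
      have hbQ : (b : G) ∈ Q (g * a * g⁻¹) := by
        rw [show (b : G) = F l from hbe]; exact hwQ _ l.2
      by_cases h1 : pz (zC z) b = 1
      · rcases eq_or_of_mem_zpowers K.ctx.base.good.x_sq (pz_eq_one_iff.1 h1) with r | r
        · left; rw [r]; rfl
        · right; left; rw [r]; rfl
      · rcases K.ctx.base.eq_or_of_pz (hcon b hb hbQ h1).symm with r | r
        · right; right; left; rw [r]; rfl
        · right; right; right; rw [r]; exact Set.mem_singleton _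
    have hcard : Nat.card ↥L = 16 := K.ctx.card_L
    have h4 : Set.ncard {l : ↥L | F l ∈ K.LG} ≤ 4 := by
      rw [← Set.ncard_image_of_injective _ hF]
      refine le_trans (Set.ncard_le_ncard (t := ({1, z, (v : G), (v : G) * z} : Set G))
        (by rintro _ ⟨l, hl', rfl⟩; exact hsmall l hl') (Set.toFinite _)) ?_
      exact (Set.ncard_insert_le _ _).trans (Nat.succ_le_succ ((Set.ncard_insert_le _ _).trans
        (Nat.succ_le_succ ((Set.ncard_insert_le _ _).trans (by rw [Set.ncard_singleton])))))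
    have hcompl := Set.ncard_add_ncard_compl {l : ↥L | F l ∈ K.LG}
    rw [hcard] at hcompl
    obtain ⟨m0, hm0⟩ : ∃ m0, m0 ∈ {l : ↥L | F l ∈ K.LG}ᶜ :=
      Set.nonempty_of_ncard_ne_zero (by omega)
    have hle : {l : ↥L | F l ∈ K.LG}ᶜ.ncard ≤ {l : ↥L | F l ∈ K.LG}.ncard := by
      refine Set.ncard_le_ncard_of_injOn (fun l => m0⁻¹ * l) ?_ ?_ (Set.toFinite _)
      · intro l hl'
        show F (m0⁻¹ * l) ∈ K.LG
        have houtside : ∀ n : ↥L, F n ∉ K.LG →
            (h : G) * (n : ↥(Subgroup.centralizer ({z} : Set G))) * (h : G)⁻¹ ∉ K.LG :=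
          fun n hn hh' => hn (K.swap_LG hg hh')
        have := K.swap_LG hg (K.coset (hmemAG _ m0.2) (houtside m0 hm0) (hmemAG _ l.2)
          (houtside l hl'))
        simp only [F, Subgroup.coe_mul, Subgroup.coe_inv] at this ⊢
        convert this using 1
        group
      · exact fun a _ b _ e => mul_left_cancel e
    omega
  obtain ⟨q0, h0, hl0, hh0⟩ := K.ctx.trans hb0.1 hb01
  obtain ⟨l, hlL, hout'⟩ := K.exists_outside hl0 (by rwa [hh0])
  set x1 := h0 * l * h0⁻¹ with hx1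
  have hx1A : x1 ∈ A := K.ctx.norm_lift hl0 hlL.1
  have hb0e : (b0 : G) = (h0 : G) * v * (h0 : G)⁻¹ := (congrArg Subtype.val hh0).symm
  obtain ⟨gv, hgv⟩ := K.ctx.hv.1
  have hgood : Good (Q (b0 : G)) (b0 : G) := by
    have hb : (b0 : G) = (h0 : G) * gv * z * ((h0 : G) * gv)⁻¹ := by rw [hb0e, ← hgv]; group
    exact hb.symm ▸ K.glob.good _
  have hgoodA : Good (Q (g * a * g⁻¹)) (g * a * g⁻¹) := by
    have he : g * a * g⁻¹ = g * (h : G) * gv * z * (g * (h : G) * gv)⁻¹ := by rw [← hh, ← hgv]; group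
    exact he.symm ▸ K.glob.good _
  have hx1Q : (x1 : G) ∈ Q (b0 : G) := by
    rw [hb0e]; exact K.glob.core.conj_mem (h0 : G) hlL.2
  have haQ : g * a * g⁻¹ ∈ Q (b0 : G) := K.glob.core.orth_symm hgood hgoodA hb0Q
  have hcom := hconst (x1 : G) (K.coe_mem_AG.2 hx1A) (fun hh' => hout' (K.coe_mem_LG.1 hh')) a ha haL
  have hbw : pz (zC z) b0 = pz (zC z) w' ∨ w = 1 := by
    rcases hgood.comm _ hx1Q _ haQ with r | r
    · right; rw [← hcom, commutatorElement_def, r, mul_inv_cancel]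
    · left
      refine congrArg _ (Subtype.ext ?_)
      rw [show (w' : G) = w from hww', ← hcom, commutatorElement_def, r, hgood.le_cent _ haQ]
      group
  rcases hbw with r | r
  · exact hb0v (r.trans hpw)
  · exact hne1 r

end GCtx

end Cfsg.Agent.Lib.LargeNine45
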